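import Mathlib
import Cfsg.Prelude.Def_LocalStructure
import Cfsg.Agent.Lib.Helper33.Conj
import Cfsg.Agent.Lib.Helper48.CharP

set_option autoImplicit false

/-!
Sylow subgroups and characteristic `p` along subnormal chains.
-/

namespace Cfsg.Agent.Lib.Helper48.CharPSub

open Subgroup Cfsg.Agent.Lib.Helper48.CharP Cfsg.Agent.Lib.Helper33.Conj

variable {G : Type*} [Group G]

/-- A Sylow `p`-subgroup of `K` meets a normal subgroup `N` of `K` in a Sylow `p`-subgroup of
`N`. -/
theorem isSylIn_inf_of_normal [Finite G] {p : ℕ} [Fact p.Prime] {P K N : Subgroup G}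
    (hP : IsSylIn p P K) (hNK : N ≤ K) (hn : K ≤ normalizer (N : Set G)) :
    IsSylIn p (P ⊓ N) N := by
  have hPN : IsPGroup p (P ⊓ N : Subgroup G) := hP.2.1.to_le inf_le_left
  obtain ⟨P₁, hle, hP₁⟩ := exists_isSylIn (inf_le_right : P ⊓ N ≤ N) hPN
  obtain ⟨k, hk, hkP⟩ := hP.exists_cj_le (hP₁.1.trans hNK) hP₁.2.1
  have h1 : P₁.map (MulAut.conj k).toMonoidHom ≤ P ⊓ N := by
    apply le_inf hkP
    have := cj_mono (g := k) hP₁.1
    rwa [cj_eq_of_mem_normalizer (hn hk)] at this
  have h2 : Nat.card P₁ ≤ Nat.card (P ⊓ N : Subgroup G) := by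
    rw [← card_cj k P₁]
    exact Subgroup.card_le_of_le h1
  have h3 : P ⊓ N = P₁ := Subgroup.eq_of_le_of_card_ge hle h2
  rw [h3]
  exact hP₁

/-- A Sylow `p`-subgroup of `G` meets a subnormal subgroup `H` in a Sylow `p`-subgroup of `H`. -/
theorem isSylIn_inf_of_subnormal [Finite G] {p : ℕ} [Fact p.Prime] (S : Sylow p G)
    {H : Subgroup G} (hH : H.IsSubnormal) : IsSylIn p ((S : Subgroup G) ⊓ H) H := by
  induction hH with
  | top =>
    rw [inf_top_eq]
    exact isSylIn_of_sylow S le_top
  | step H K h_le hSubn hN ih =>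
    have hn : K ≤ normalizer (H : Set G) := (normal_subgroupOf_iff_le_normalizer h_le).mp hN
    have := isSylIn_inf_of_normal ih h_le hn
    rwa [inf_assoc, inf_eq_right.mpr h_le] at this

/-- Subnormal subgroups of groups of characteristic `p` have characteristic `p`. -/
theorem chP_inf_of_subnormal [Finite G] {p : ℕ} [Fact p.Prime] {L : Subgroup G} (hL : ChP p L)
    {H : Subgroup G} (hH : H.IsSubnormal) : ChP p (H ⊓ L) := by
  induction hH with
  | top =>
    rw [top_inf_eq]
    exact hL
  | step H K h_le hSubn hN ih =>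
    have hn : K ≤ normalizer (H : Set G) := (normal_subgroupOf_iff_le_normalizer h_le).mp hN
    apply ih.of_normal (inf_le_inf_right L h_le)
    intro g hg
    exact mem_normalizer_inf (hn (mem_inf.mp hg).1) (le_normalizer (mem_inf.mp hg).2)

/-- A Sylow `p`-subgroup of the subgroup type `↥H`, viewed in `G`. -/
theorem isSylIn_map_subtype [Finite G] {p : ℕ} [Fact p.Prime] {H : Subgroup G} (T : Sylow p ↥H) :
    IsSylIn p ((T : Subgroup ↥H).map H.subtype) H := by
  refine ⟨?_, T.isPGroup'.map _, ?_⟩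
  · rintro _ ⟨t, _, rfl⟩
    exact t.2
  · have h2 : ((T : Subgroup ↥H).map H.subtype).subgroupOf H = (T : Subgroup ↥H) :=
      comap_map_eq_self_of_injective H.subtype_injective _
    rw [relIndex, h2]
    exact T.not_dvd_index

end Cfsg.Agent.Lib.Helper48.CharPSub
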