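import Mathlib
import Cfsg.Prelude.Def_PLocal
import Cfsg.Prelude.Def_CaseTheorems
import Cfsg.Agent.Lib.Helper86.GL2
import Cfsg.Agent.Lib.Helper86.ElemAb
import Cfsg.Agent.Lib.Helper11.QuadSolv
import Cfsg.Agent.Lib.Helper67.PGroupSmall
import Cfsg.Agent.Lib.Helper64.Frattini
import Cfsg.Agent.Lib.Helper24.Coprime
import Cfsg.Agent.Lib.Helper11.ZJ

/-! Two conjugate transvection groups of order `p` generating a non-`p`-group inside a group with
a normal `p`-complement: the group generated is `SL₂(p)`, `p ∈ {2, 3}` (Kurzweil–Stellmacher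
9.3.5-type statement). -/

set_option autoImplicit false
set_option linter.unusedSectionVars false
set_option linter.unusedVariables false

namespace Cfsg.Agent.Lib.Helper48.Off1

open scoped commutatorElement Pointwise
open Cfsg

variable {G : Type*} [Group G]

/-- `⁅V, A ⊔ B⁆ ≤ W` if `⁅V, A⁆, ⁅V, B⁆ ≤ W` and `A`, `B` normalize `W`. -/
theorem commutator_sup_le (V A B W : Subgroup G)
    (hA : ⁅V, A⁆ ≤ W) (hB : ⁅V, B⁆ ≤ W) (hAW : A ≤ Subgroup.normalizer (W : Set G))
    (hBW : B ≤ Subgroup.normalizer (W : Set G)) : ⁅V, A ⊔ B⁆ ≤ W := by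
  let T : Subgroup G :=
    { carrier := {g | g ∈ Subgroup.normalizer (W : Set G) ∧ ∀ v ∈ V, ⁅v, g⁆ ∈ W}
      one_mem' := ⟨one_mem _, fun v _ => by rw [commutatorElement_one_right]; exact one_mem _⟩
      mul_mem' := by
        rintro g h ⟨hg, hg'⟩ ⟨hh, hh'⟩
        refine ⟨mul_mem hg hh, fun v hv => ?_⟩
        have e : ⁅v, g * h⁆ = ⁅v, g⁆ * (g * ⁅v, h⁆ * g⁻¹) := by
          simp only [commutatorElement_def]; group
        rw [e]
        exact W.mul_mem (hg' v hv) ((Subgroup.mem_normalizer_iff.mp hg _).mp (hh' v hv))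
      inv_mem' := by
        rintro g ⟨hg, hg'⟩
        refine ⟨inv_mem hg, fun v hv => ?_⟩
        have e : ⁅v, g⁻¹⁆ = g⁻¹ * (⁅v, g⁆)⁻¹ * g⁻¹⁻¹ := by
          simp only [commutatorElement_def]; group
        rw [e]
        exact (Subgroup.mem_normalizer_iff.mp (inv_mem hg) _).mp (W.inv_mem (hg' v hv)) }
  have hAT : A ≤ T := fun a ha =>
    ⟨hAW ha, fun v hv => hA (Subgroup.commutator_mem_commutator hv ha)⟩
  have hBT : B ≤ T := fun b hb =>
    ⟨hBW hb, fun v hv => hB (Subgroup.commutator_mem_commutator hv hb)⟩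
  rw [Subgroup.commutator_le]
  intro v hv g hg
  exact ((sup_le hAT hBT) hg).2 v hv

/-- If `⁅V, A⁆ ≤ Y ≤ V`, then `A` normalizes `Y`. -/
theorem le_normalizer_of_commutator_le [Finite G] (V A Y : Subgroup G) (hY : Y ≤ V)
    (h : ⁅V, A⁆ ≤ Y) : A ≤ Subgroup.normalizer (Y : Set G) := by
  intro a ha
  apply Cfsg.Agent.Lib.Helper64.Frattini.mem_normalizer_of_conj_mem
  intro y hy
  have h1 : ⁅y, a⁆ ∈ Y := h (Subgroup.commutator_mem_commutator (hY hy) ha)
  have e : a * y * a⁻¹ = (⁅y, a⁆)⁻¹ * y := by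
    simp only [commutatorElement_def]; group
  rw [e]
  exact Y.mul_mem (Y.inv_mem h1) hy

/-- a `p`-element of `GL₂(p)` has determinant one. -/
theorem mem_toGL_range_of_pow {p : ℕ} [Fact p.Prime] (g : GL (Fin 2) (ZMod p)) (k : ℕ)
    (hg : g ^ p ^ k = 1) :
    g ∈ (Matrix.SpecialLinearGroup.toGL :
      Matrix.SpecialLinearGroup (Fin 2) (ZMod p) →* GL (Fin 2) (ZMod p)).range := by
  have hp : p.Prime := Fact.out
  have h1 : (Matrix.GeneralLinearGroup.det g) ^ p ^ k = 1 := by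
    rw [← map_pow, hg, map_one]
  have h2 : (Matrix.GeneralLinearGroup.det g) ^ (p - 1) = 1 :=
    ZMod.units_pow_card_sub_one_eq_one p _
  have h3 : orderOf (Matrix.GeneralLinearGroup.det g) ∣ p ^ k := orderOf_dvd_of_pow_eq_one h1
  have h4 : orderOf (Matrix.GeneralLinearGroup.det g) ∣ p - 1 := orderOf_dvd_of_pow_eq_one h2
  have hcop : Nat.Coprime (p ^ k) (p - 1) := by
    apply Nat.Coprime.pow_left
    rw [hp.coprime_iff_not_dvd]
    intro hd
    have := Nat.le_of_dvd (by have := hp.two_le; omega) hd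
    have := hp.two_le
    omega
  have h5 : orderOf (Matrix.GeneralLinearGroup.det g) = 1 := Nat.eq_one_of_dvd_coprimes hcop h3 h4
  have h6 : Matrix.GeneralLinearGroup.det g = 1 := orderOf_eq_one_iff.mp h5
  have hdet : (g : Matrix (Fin 2) (Fin 2) (ZMod p)).det = 1 := by
    have := congrArg (fun u : (ZMod p)ˣ => (u : ZMod p)) h6
    simpa [Matrix.GeneralLinearGroup.val_det_apply] using this
  refine ⟨⟨_, hdet⟩, ?_⟩
  apply Units.ext
  rfl

section main

variable [Finite G] {p : ℕ} [Fact p.Prime]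

/-- the `p`-th power of an element of `A ⊔ K` lies in `K` (`|A| = p`, `K` normalized). -/
theorem pow_mem_of_mem_sup (H K A : Subgroup G) (hKH : K ≤ H)
    (hKn : H ≤ Subgroup.normalizer (K : Set G)) (hAH : A ≤ H) (hA : Nat.card A = p)
    (y : G) (hy : y ∈ A ⊔ K) : y ^ p ∈ K := by
  have hn : (K.subgroupOf H).Normal := Subgroup.normal_subgroupOf_of_le_normalizer hKn
  have hyH : y ∈ H := (sup_le hAH hKH) hy
  have h1 : (⟨y, hyH⟩ : ↥H) ∈ A.subgroupOf H ⊔ K.subgroupOf H := by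
    rw [← Subgroup.subgroupOf_sup hAH hKH, Subgroup.mem_subgroupOf]
    exact hy
  have h2 : ((A.subgroupOf H ⊔ K.subgroupOf H : Subgroup ↥H) : Set ↥H) =
      (A.subgroupOf H : Set ↥H) * (K.subgroupOf H : Set ↥H) := Subgroup.mul_normal _ _
  have h3 : (⟨y, hyH⟩ : ↥H) ∈ (A.subgroupOf H : Set ↥H) * (K.subgroupOf H : Set ↥H) := by
    rw [← h2]; exact h1
  obtain ⟨a, ha, k, hk, hak⟩ := Set.mem_mul.mp h3
  have ha' : (a : G) ∈ A := Subgroup.mem_subgroupOf.mp ha
  have hap : (a : G) ^ p = 1 := by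
    have := Subgroup.orderOf_dvd_natCard A ha'
    rw [hA] at this
    exact orderOf_dvd_iff_pow_eq_one.mp this
  have h4 : (QuotientGroup.mk' (K.subgroupOf H)) ((⟨y, hyH⟩ : ↥H) ^ p) = 1 := by
    rw [map_pow, ← hak, map_mul]
    have hk1 : (QuotientGroup.mk' (K.subgroupOf H)) k = 1 := (QuotientGroup.eq_one_iff k).mpr hk
    rw [hk1, mul_one, ← map_pow]
    have ha1 : a ^ p = 1 := Subtype.ext (by rw [Subgroup.coe_pow]; exact hap)
    rw [ha1, map_one]
  have h5 := (QuotientGroup.eq_one_iff _).mp h4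
  rw [Subgroup.mem_subgroupOf] at h5
  simpa using h5

/-- **Two conjugate transvection groups.** -/
theorem pair (V H K A : Subgroup G) (hV : IsElementaryAbelian p V)
    (hHV : H ≤ Subgroup.normalizer (V : Set G)) (hf : H ⊓ Subgroup.centralizer (V : Set G) = ⊥)
    (hKH : K ≤ H) (hKn : H ≤ Subgroup.normalizer (K : Set G)) (hKc : (Nat.card K).Coprime p)
    (hAH : A ≤ H) (hA : Nat.card A = p) (hVA : Nat.card ↥(⁅V, A⁆) = p)
    (x : G) (hx : x ∈ K) (hxA : x ∉ Subgroup.centralizer (A : Set G)) :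
    (p = 2 ∨ p = 3) ∧
    Nat.card ↥(⁅V, A ⊔ A.map (MulAut.conj x).toMonoidHom⁆) = p ^ 2 ∧
    (A ⊔ A.map (MulAut.conj x).toMonoidHom) ⊓
      Subgroup.centralizer ((⁅V, A ⊔ A.map (MulAut.conj x).toMonoidHom⁆ : Subgroup G) : Set G)
        = ⊥ ∧
    Nonempty (↥(A ⊔ A.map (MulAut.conj x).toMonoidHom) ≃*
      Matrix.SpecialLinearGroup (Fin 2) (ZMod p)) := by
  have hp : p.Prime := Fact.out
  have hxH : x ∈ H := hKH hx
  obtain ⟨B, hBdef⟩ : ∃ B : Subgroup G, B = A.map (MulAut.conj x).toMonoidHom := ⟨_, rfl⟩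
  rw [← hBdef]
  have hBmem : ∀ b, b ∈ B ↔ ∃ a ∈ A, x * a * x⁻¹ = b := by
    intro b
    rw [hBdef, Subgroup.mem_map]
    rfl
  have hBH : B ≤ H := by
    intro b hb
    obtain ⟨a, ha, rfl⟩ := (hBmem b).mp hb
    exact H.mul_mem (H.mul_mem hxH (hAH ha)) (H.inv_mem hxH)
  have hBcard : Nat.card B = p := by
    rw [hBdef, Subgroup.card_map_of_injective (MulAut.conj x).injective, hA]
  have hAK : A ⊓ K = ⊥ :=
    (Subgroup.disjoint_of_coprime_natCard (by rw [hA]; exact hKc.symm)).eq_bot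
  have hkey : ∀ a ∈ A, a⁻¹ * (x * a * x⁻¹) ∈ K := by
    intro a ha
    have h1 : a⁻¹ * x * a⁻¹⁻¹ ∈ K :=
      (Subgroup.mem_normalizer_iff.mp (hKn (H.inv_mem (hAH ha))) x).mp hx
    have h2 := K.mul_mem h1 (K.inv_mem hx)
    have e : a⁻¹ * x * a⁻¹⁻¹ * x⁻¹ = a⁻¹ * (x * a * x⁻¹) := by group
    rwa [e] at h2
  have hne : A ≠ B := by
    intro h
    apply hxA
    rw [Subgroup.mem_centralizer_iff]
    intro a ha
    have h1 : x * a * x⁻¹ ∈ A := by rw [h]; exact (hBmem _).mpr ⟨a, ha, rfl⟩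
    have h2 : a⁻¹ * (x * a * x⁻¹) ∈ A ⊓ K := ⟨A.mul_mem (A.inv_mem ha) h1, hkey a ha⟩
    rw [hAK, Subgroup.mem_bot] at h2
    have h3 : x * a * x⁻¹ = a := by
      calc x * a * x⁻¹ = a * (a⁻¹ * (x * a * x⁻¹)) := by group
        _ = a := by rw [h2, mul_one]
    calc a * x = (x * a * x⁻¹) * x := by rw [h3]
      _ = x * a := by group
  obtain ⟨L, hLdef⟩ : ∃ L : Subgroup G, L = A ⊔ B := ⟨_, rfl⟩
  rw [← hLdef]
  have hAL : A ≤ L := hLdef ▸ le_sup_left
  have hBL : B ≤ L := hLdef ▸ le_sup_right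
  have hLH : L ≤ H := hLdef ▸ sup_le hAH hBH
  have hLAK : L ≤ A ⊔ K := by
    rw [hLdef]
    refine sup_le le_sup_left ?_
    intro b hb
    obtain ⟨a, ha, rfl⟩ := (hBmem b).mp hb
    have e : x * a * x⁻¹ = a * (a⁻¹ * (x * a * x⁻¹)) := by group
    rw [e]
    exact Subgroup.mul_mem_sup ha (hkey a ha)
  have hLdvd : Nat.card L ∣ p * Nat.card K := by
    have h1 := Cfsg.Agent.Lib.Helper67.PGroupSmall.card_sup_dvd' K A (hAH.trans hKn)
    rw [sup_comm, hA, mul_comm] at h1
    exact (Subgroup.card_dvd_of_le hLAK).trans h1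
  have hsmall : ∀ Q : Subgroup G, Q ≤ L → (∃ k, Nat.card Q = p ^ k) → Nat.card Q ∣ p := by
    rintro Q hQL ⟨k, hk⟩
    have h1 : Nat.card Q ∣ p * Nat.card K := (Subgroup.card_dvd_of_le hQL).trans hLdvd
    rw [hk] at h1 ⊢
    exact (Nat.Coprime.pow_left k hKc.symm).dvd_of_dvd_mul_right h1
  have hLV : L ≤ Subgroup.normalizer (V : Set G) := hLH.trans hHV
  obtain ⟨W, hWdef⟩ : ∃ W : Subgroup G, W = ⁅V, L⁆ := ⟨_, rfl⟩
  rw [← hWdef]
  have hWV : W ≤ V :=
    hWdef ▸ Cfsg.Agent.Lib.Helper24.Coprime.commutator_le_of_le_normalizer hLV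
  have hLW : L ≤ Subgroup.normalizer (W : Set G) := by
    intro g hg
    rw [hWdef]
    exact Cfsg.Agent.Lib.Helper24.Coprime.mem_normalizer_commutator (hLV hg)
      (Subgroup.le_normalizer hg)
  have hVAW : ⁅V, A⁆ ≤ W := hWdef ▸ Subgroup.commutator_mono le_rfl hAL
  have hVBW : ⁅V, B⁆ ≤ W := hWdef ▸ Subgroup.commutator_mono le_rfl hBL
  have hVBcard : Nat.card ↥(⁅V, B⁆) = p := by
    have h1 := Subgroup.map_commutator V A (MulAut.conj x).toMonoidHom
    rw [Cfsg.Agent.Lib.Helper11.ZJ.map_conj_eq_of_mem_normalizer V x (hHV hxH), ← hBdef] at h1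
    rw [← h1, Subgroup.card_map_of_injective (MulAut.conj x).injective, hVA]
  have hVab : ∀ u ∈ V, ∀ v ∈ V, u * v = v * u := fun u hu v hv => by
    have := hV.1
    exact setLike_mul_comm hu hv
  have hWdvd : Nat.card W ∣ p ^ 2 := by
    have hYA : ⁅V, A⁆ ≤ V :=
      Cfsg.Agent.Lib.Helper24.Coprime.commutator_le_of_le_normalizer (hAL.trans hLV)
    have hYB : ⁅V, B⁆ ≤ V :=
      Cfsg.Agent.Lib.Helper24.Coprime.commutator_le_of_le_normalizer (hBL.trans hLV)
    have hY : ⁅V, A⁆ ⊔ ⁅V, B⁆ ≤ V := sup_le hYA hYB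
    have hle : W ≤ ⁅V, A⁆ ⊔ ⁅V, B⁆ := by
      rw [hWdef, hLdef]
      exact commutator_sup_le V A B _ le_sup_left le_sup_right
        (le_normalizer_of_commutator_le V A _ hY le_sup_left)
        (le_normalizer_of_commutator_le V B _ hY le_sup_right)
    have hn : ⁅V, B⁆ ≤ Subgroup.normalizer ((⁅V, A⁆ : Subgroup G) : Set G) := by
      intro b hb
      apply Cfsg.Agent.Lib.Helper24.Coprime.mem_normalizer_of_commute
      intro c hc
      exact hVab c (hYA hc) b (hYB hb)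
    have h1 := Cfsg.Agent.Lib.Helper67.PGroupSmall.card_sup_dvd' ⁅V, A⁆ ⁅V, B⁆ hn
    rw [hVA, hVBcard, ← pow_two] at h1
    exact (Subgroup.card_dvd_of_le hle).trans h1
  -- the centralizer of `W` in `L` is trivial
  obtain ⟨C, hCdef⟩ : ∃ C : Subgroup G, C = L ⊓ Subgroup.centralizer (W : Set G) := ⟨_, rfl⟩
  rw [← hCdef]
  have hCL : C ≤ L := hCdef ▸ inf_le_left
  have hCW : C ≤ Subgroup.centralizer (W : Set G) := hCdef ▸ inf_le_right
  have hCpow : ∀ c ∈ C, c ^ p = 1 := by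
    intro c hc
    have hcL : c ∈ L := hCL hc
    have hz : Subgroup.zpowers c ≤ Subgroup.centralizer (W : Set G) := by
      rw [Subgroup.zpowers_le]; exact hCW hc
    have hzL : Subgroup.zpowers c ≤ L := by
      rw [Subgroup.zpowers_le]; exact hcL
    have hq : ⁅⁅V, Subgroup.zpowers c⁆, Subgroup.zpowers c⁆ = ⊥ := by
      rw [eq_bot_iff]
      calc ⁅⁅V, Subgroup.zpowers c⁆, Subgroup.zpowers c⁆ ≤ ⁅W, Subgroup.zpowers c⁆ :=
            Subgroup.commutator_mono (hWdef ▸ Subgroup.commutator_mono le_rfl hzL) le_rfl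
        _ = ⊥ := by
            rw [Subgroup.commutator_comm, Subgroup.commutator_eq_bot_iff_le_centralizer]
            exact hz
    have h1 := Cfsg.Agent.Lib.Helper11.QuadSolv.quad_pow_mem_centralizer V p hV.2 c (hLV hcL) hq
    have h2 : c ^ p ∈ H ⊓ Subgroup.centralizer (V : Set G) := ⟨H.pow_mem (hLH hcL) p, h1⟩
    rw [hf, Subgroup.mem_bot] at h2
    exact h2
  have hLC : L ≤ Subgroup.normalizer (C : Set G) := by
    intro g hg
    apply Cfsg.Agent.Lib.Helper64.Frattini.mem_normalizer_of_conj_mem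
    intro y hy
    have hyL : y ∈ L := hCL hy
    have hyC := hCW hy
    rw [hCdef]
    refine ⟨L.mul_mem (L.mul_mem hg hyL) (L.inv_mem hg), ?_⟩
    rw [Subgroup.mem_centralizer_iff] at hyC
    show g * y * g⁻¹ ∈ Subgroup.centralizer (W : Set G)
    rw [Subgroup.mem_centralizer_iff]
    intro w hw
    have hw' : g⁻¹ * w * g⁻¹⁻¹ ∈ W :=
      (Subgroup.mem_normalizer_iff.mp (hLW (L.inv_mem hg)) w).mp hw
    have h1 := hyC _ hw'
    calc w * (g * y * g⁻¹) = g * ((g⁻¹ * w * g⁻¹⁻¹) * y) * g⁻¹ := by group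
      _ = g * (y * (g⁻¹ * w * g⁻¹⁻¹)) * g⁻¹ := by rw [h1]
      _ = g * y * g⁻¹ * w := by group
  have hCbot : C = ⊥ := by
    by_contra hC1
    have hCp : IsPGroup p C := fun c =>
      ⟨1, by apply Subtype.ext; rw [pow_one, Subgroup.coe_pow]; exact hCpow c c.2⟩
    obtain ⟨k, hk⟩ := IsPGroup.iff_card.mp hCp
    have hCle : ∀ A' : Subgroup G, A' ≤ L → Nat.card A' = p → C ≤ A' := by
      intro A' hA'L hA'
      have h1 := Cfsg.Agent.Lib.Helper67.PGroupSmall.card_sup_dvd' C A' (hA'L.trans hLC)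
      rw [hk, hA'] at h1
      have h2 : Nat.card ↥(C ⊔ A') ∣ p ^ (k + 1) := by rw [pow_succ]; exact h1
      obtain ⟨j, -, hj⟩ := (Nat.dvd_prime_pow hp).mp h2
      have h3 := hsmall (C ⊔ A') (sup_le hCL hA'L) ⟨j, hj⟩
      have h4 : A' = C ⊔ A' := by
        apply Subgroup.eq_of_le_of_card_ge le_sup_right
        rw [hA']
        exact Nat.le_of_dvd hp.pos h3
      rw [h4]; exact le_sup_left
    have hCcard : Nat.card C = p := by
      have h1 : Nat.card C ∣ p := by
        rw [← hA]; exact Subgroup.card_dvd_of_le (hCle A hAL hA)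
      rcases (Nat.dvd_prime hp).mp h1 with h | h
      · exact absurd (Subgroup.card_eq_one.mp h) hC1
      · exact h
    have hCA : C = A := Subgroup.eq_of_le_of_card_ge (hCle A hAL hA) (by rw [hCcard, hA])
    have hCB : C = B :=
      Subgroup.eq_of_le_of_card_ge (hCle B hBL hBcard) (by rw [hCcard, hBcard])
    exact hne (hCA.symm.trans hCB)
  have hWcard : Nat.card W = p ^ 2 := by
    obtain ⟨j, hj2, hj⟩ := (Nat.dvd_prime_pow hp).mp hWdvd
    interval_cases j
    · exfalso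
      have h1 : Nat.card ↥(⁅V, A⁆) ∣ Nat.card W := Subgroup.card_dvd_of_le hVAW
      rw [hVA, hj, pow_zero] at h1
      exact hp.one_lt.ne' (Nat.dvd_one.mp h1)
    · exfalso
      rw [pow_one] at hj
      have hnil : Group.IsNilpotent ↥(W ⊔ A) := by
        have h1 := Cfsg.Agent.Lib.Helper67.PGroupSmall.card_sup_dvd' W A (hAL.trans hLW)
        rw [hj, hA, ← pow_two] at h1
        obtain ⟨i, -, hi⟩ := (Nat.dvd_prime_pow hp).mp h1
        exact (IsPGroup.of_card hi).isNilpotent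
      have hWA' : ⁅W, A⁆ ≤ W :=
        Cfsg.Agent.Lib.Helper24.Coprime.commutator_le_of_le_normalizer (hAL.trans hLW)
      have hWA : ⁅W, A⁆ ≠ W := by
        intro h
        have h0 := Cfsg.Agent.Lib.Helper24.Coprime.eq_bot_of_commutator_eq hnil le_sup_left
          le_sup_right h
        rw [h0, Subgroup.card_bot] at hj
        exact hp.one_lt.ne hj
      have hWA0 : ⁅W, A⁆ = ⊥ := by
        have h1 : Nat.card ↥(⁅W, A⁆) ∣ p := by
          rw [← hj]; exact Subgroup.card_dvd_of_le hWA'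
        rcases (Nat.dvd_prime hp).mp h1 with h | h
        · exact Subgroup.card_eq_one.mp h
        · exact absurd (Subgroup.eq_of_le_of_card_ge hWA' (by rw [h, hj])) hWA
      have hAC : A ≤ C := by
        rw [hCdef]
        refine le_inf hAL ?_
        rw [← Subgroup.commutator_eq_bot_iff_le_centralizer, Subgroup.commutator_comm]
        exact hWA0
      rw [hCbot] at hAC
      have hAbot : A = ⊥ := le_bot_iff.mp hAC
      rw [hAbot, Subgroup.card_bot] at hA
      exact hp.one_lt.ne hA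
    · exact hj
  -- the faithful action on `W`
  have hWab : ∀ a b : ↥W, a * b = b * a := fun a b =>
    Subtype.ext (hVab a (hWV a.2) b (hWV b.2))
  have hWexp : ∀ a : ↥W, a ^ p = 1 := fun a =>
    Subtype.ext (by rw [Subgroup.coe_pow]; exact hV.2 a (hWV a.2))
  obtain ⟨e⟩ := Cfsg.Agent.Lib.Helper86.ElemAb.exists_mulAut_equiv_GL hWab hWexp 2 hWcard
  let θ : ↥L →* MulAut ↥W := W.normalizerMonoidHom.comp (Subgroup.inclusion hLW)
  have hθv : ∀ (h : ↥L) (v : ↥W), ((θ h v : ↥W) : G) = h * v * (h : G)⁻¹ := fun h v => rfl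
  have hθ : Function.Injective θ := by
    rw [injective_iff_map_eq_one]
    intro h hh
    have h0 : (h : G) ∈ Subgroup.centralizer (W : Set G) := by
      rw [Subgroup.mem_centralizer_iff]
      intro v hv
      have h2 := hθv h ⟨v, hv⟩
      rw [hh] at h2
      have h3 : v = h * v * (h : G)⁻¹ := h2
      calc v * h = (h * v * (h : G)⁻¹) * h := by rw [← h3]
        _ = h * v := by group
    have h1 : (h : G) ∈ C := by rw [hCdef]; exact ⟨h.2, h0⟩
    rw [hCbot, Subgroup.mem_bot] at h1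
    exact Subtype.ext h1
  let ψ : ↥L →* GL (Fin 2) (ZMod p) := e.toMonoidHom.comp θ
  have hψ : Function.Injective ψ := e.injective.comp hθ
  have hAsub : Nat.card (A.subgroupOf L) = p := by
    rw [Cfsg.Agent.Lib.Helper67.PGroupSmall.card_subgroupOf_eq hAL, hA]
  have hBsub : Nat.card (B.subgroupOf L) = p := by
    rw [Cfsg.Agent.Lib.Helper67.PGroupSmall.card_subgroupOf_eq hBL, hBcard]
  have hP1 : IsPGroup p ((A.subgroupOf L).map ψ) :=
    (IsPGroup.of_card (n := 1) (by rw [hAsub, pow_one])).map ψ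
  have hP2 : IsPGroup p ((B.subgroupOf L).map ψ) :=
    (IsPGroup.of_card (n := 1) (by rw [hBsub, pow_one])).map ψ
  have hb1 : (A.subgroupOf L).map ψ ≠ ⊥ := by
    rw [Ne, Subgroup.map_eq_bot_iff_of_injective _ hψ]
    intro h
    rw [h, Subgroup.card_bot] at hAsub
    exact hp.one_lt.ne hAsub
  have hb2 : (B.subgroupOf L).map ψ ≠ ⊥ := by
    rw [Ne, Subgroup.map_eq_bot_iff_of_injective _ hψ]
    intro h
    rw [h, Subgroup.card_bot] at hBsub
    exact hp.one_lt.ne hBsub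
  have hne12 : (A.subgroupOf L).map ψ ≠ (B.subgroupOf L).map ψ := by
    intro h
    have h1 := Subgroup.map_injective hψ h
    apply hne
    have h2 := congrArg (Subgroup.map L.subtype) h1
    rwa [Subgroup.map_subgroupOf_eq_of_le hAL, Subgroup.map_subgroupOf_eq_of_le hBL] at h2
  have hsup := Cfsg.Agent.Lib.Helper86.GL2.toGL_range_le_sup _ _ hP1 hP2 hb1 hb2 hne12
  have hrange : (A.subgroupOf L).map ψ ⊔ (B.subgroupOf L).map ψ = ψ.range := by
    rw [← Subgroup.map_sup, ← Subgroup.subgroupOf_sup hAL hBL, ← hLdef, Subgroup.subgroupOf_self,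
      MonoidHom.range_eq_map]
  rw [hrange] at hsup
  have hle : ψ.range ≤ (Matrix.SpecialLinearGroup.toGL :
      Matrix.SpecialLinearGroup (Fin 2) (ZMod p) →* GL (Fin 2) (ZMod p)).range := by
    rw [← hrange]
    refine sup_le ?_ ?_
    · intro g hg
      obtain ⟨k, hk⟩ := hP1 ⟨g, hg⟩
      exact mem_toGL_range_of_pow g k (by simpa using congrArg Subtype.val hk)
    · intro g hg
      obtain ⟨k, hk⟩ := hP2 ⟨g, hg⟩
      exact mem_toGL_range_of_pow g k (by simpa using congrArg Subtype.val hk)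
  have heq : ψ.range = (Matrix.SpecialLinearGroup.toGL :
      Matrix.SpecialLinearGroup (Fin 2) (ZMod p) →* GL (Fin 2) (ZMod p)).range :=
    le_antisymm hle hsup
  have hinjGL : Function.Injective (Matrix.SpecialLinearGroup.toGL :
      Matrix.SpecialLinearGroup (Fin 2) (ZMod p) →* GL (Fin 2) (ZMod p)) := by
    intro a b hab
    apply Subtype.ext
    have := congrArg (fun u : GL (Fin 2) (ZMod p) => (u : Matrix (Fin 2) (Fin 2) (ZMod p))) hab
    exact this
  have eL : ↥L ≃* Matrix.SpecialLinearGroup (Fin 2) (ZMod p) :=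
    (MonoidHom.ofInjective hψ).trans ((MulEquiv.subgroupCongr heq).trans
      (MonoidHom.ofInjective hinjGL).symm)
  refine ⟨?_, hWcard, hCbot, ⟨eL⟩⟩
  by_cases hp2 : p = 2
  · exact Or.inl hp2
  right
  apply Cfsg.Agent.Lib.Helper11.QuadSolv.eq_three_of_pChain_SL2 hp2
  have hN : (K.subgroupOf L).Normal :=
    Subgroup.normal_subgroupOf_of_le_normalizer (hLH.trans hKn)
  have hch : Cfsg.Agent.Lib.Helper11.QuadSolv.PChain p ↥L := by
    refine ⟨2, fun i => match i with
      | 0 => ⊥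
      | 1 => K.subgroupOf L
      | _ + 2 => ⊤, rfl, rfl, ?_, ?_⟩
    · intro i
      rcases i with _ | _ | i
      · exact Subgroup.normal_bot
      · exact hN
      · exact Subgroup.normal_top
    · intro i
      rcases i with _ | _ | i
      · refine ⟨Nat.card K, Or.inr hKc, ?_⟩
        intro y hy
        have hy' : (y : G) ∈ K := Subgroup.mem_subgroupOf.mp hy
        show y ^ Nat.card K ∈ (⊥ : Subgroup ↥L)
        rw [Subgroup.mem_bot]
        apply Subtype.ext
        rw [Subgroup.coe_pow]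
        have := Subgroup.orderOf_dvd_natCard K hy'
        exact orderOf_dvd_iff_pow_eq_one.mp this
      · refine ⟨p, Or.inl ⟨1, (pow_one p).symm⟩, ?_⟩
        intro y _
        show y ^ p ∈ K.subgroupOf L
        rw [Subgroup.mem_subgroupOf, Subgroup.coe_pow]
        exact pow_mem_of_mem_sup H K A hKH hKn hAH hA _ (hLAK y.2)
      · refine ⟨1, Or.inl ⟨0, (pow_zero p).symm⟩, ?_⟩
        intro y _
        exact Subgroup.mem_top _
  exact hch.of_surjective eL.toMonoidHom eL.surjective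

end main

end Cfsg.Agent.Lib.Helper48.Off1
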