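import Mathlib
import Cfsg.Agent.Lib.Helper48.Off1
import Cfsg.Agent.Lib.Helper31.InvSylow
import Cfsg.Agent.Lib.Helper76.PSolv

/-! The commutator `[O_{p'}(H), A]` of a minimal best offender `A` is an `r`-group
(Kurzweil–Stellmacher 9.3.6-type statement): counting argument. -/

set_option autoImplicit false
set_option linter.unusedSectionVars false
set_option linter.unusedVariables false

namespace Cfsg.Agent.Lib.Helper48.Off2

open scoped commutatorElement
open Cfsg

variable {G : Type*} [Group G]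

/-- If `|K : C| ≤ |T : T ∩ C|` then `K = T C`. -/
theorem exists_mul_of_relIndex_le [Finite G] (K T C : Subgroup G) (hTK : T ≤ K)
    (h : C.relIndex K ≤ C.relIndex T) (x : G) (hx : x ∈ K) : ∃ t ∈ T, t⁻¹ * x ∈ C := by
  have hbij : Function.Bijective (Subgroup.quotientSubgroupOfEmbeddingOfLE C hTK) :=
    (Subgroup.quotientSubgroupOfEmbeddingOfLE C hTK).injective.bijective_of_nat_card_le h
  obtain ⟨q, hq⟩ := hbij.2 (QuotientGroup.mk ⟨x, hx⟩)
  obtain ⟨t, rfl⟩ := QuotientGroup.mk_surjective q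
  rw [Subgroup.quotientSubgroupOfEmbeddingOfLE_apply_mk] at hq
  have h1 := QuotientGroup.eq.mp hq
  rw [Subgroup.mem_subgroupOf] at h1
  exact ⟨t, t.2, by simpa using h1⟩

/-- **Counting lemma.** If all commutators `[x, a]` (`x ∈ K`, `a ∈ A`) are `r`-elements, `A` a
`p`-group normalizing the `p'`-group `K`, then `[K, A]` is an `r`-group. -/
theorem commutator_isPGroup [Finite G] {p r : ℕ} [Fact p.Prime] [Fact r.Prime] (K A : Subgroup G)
    (hA : IsPGroup p A) (hK : (Nat.card K).Coprime p)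
    (hAK : A ≤ Subgroup.normalizer (K : Set G))
    (hr : ∀ x ∈ K, ∀ a ∈ A, ∃ k : ℕ, ⁅x, a⁆ ^ r ^ k = 1) :
    IsPGroup r ↥(⁅K, A⁆) := by
  have hp : p.Prime := Fact.out
  have hrp : r.Prime := Fact.out
  have hK' : ¬ p ∣ Nat.card K := fun hd => hp.one_lt.ne' (Nat.eq_one_of_dvd_coprimes hK.symm (dvd_refl p) hd |> fun h => h)
  have hAK' : ∀ a ∈ A, ∀ k ∈ K, a * k * a⁻¹ ∈ K := fun a ha k hk =>
    (Subgroup.mem_normalizer_iff.mp (hAK ha) k).mp hk
  obtain ⟨C, hCdef⟩ : ∃ C : Subgroup G, C = K ⊓ Subgroup.centralizer (A : Set G) := ⟨_, rfl⟩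
  have hCK : C ≤ K := hCdef ▸ inf_le_left
  have hcardK : Nat.card K = Nat.card C * C.relIndex K :=
    Cfsg.Agent.Lib.Helper76.PSolv.card_eq_card_mul_relIndex hCK
  have hKpos : Nat.card K ≠ 0 := Nat.card_pos.ne'
  have hrel0 : C.relIndex K ≠ 0 := by
    intro h0
    rw [h0, mul_zero] at hcardK
    exact hKpos hcardK
  -- invariant Sylow subgroups for other primes are centralized
  have hcent : ∀ (s : ℕ), s.Prime → s ≠ r → ∀ S : Subgroup G, S ≤ K → (∃ e, Nat.card S = s ^ e) →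
      (∀ a ∈ A, ∀ y ∈ S, a * y * a⁻¹ ∈ S) → S ≤ C := by
    intro s hs hsr S hSK ⟨e, he⟩ hSA y hy
    rw [hCdef]
    refine ⟨hSK hy, ?_⟩
    show y ∈ Subgroup.centralizer (A : Set G)
    rw [Subgroup.mem_centralizer_iff]
    intro a ha
    obtain ⟨k, hk⟩ := hr y (hSK hy) a ha
    have hmem : ⁅y, a⁆ ∈ S := by
      have e1 : ⁅y, a⁆ = y * (a * y⁻¹ * a⁻¹) := by
        simp only [commutatorElement_def]; group
      rw [e1]
      exact S.mul_mem hy (hSA a ha _ (S.inv_mem hy))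
    have h1 : orderOf ⁅y, a⁆ ∣ s ^ e := he ▸ Subgroup.orderOf_dvd_natCard S hmem
    have h2 : orderOf ⁅y, a⁆ ∣ r ^ k := orderOf_dvd_of_pow_eq_one hk
    have hcop : Nat.Coprime (s ^ e) (r ^ k) :=
      Nat.Coprime.pow _ _ ((Nat.coprime_primes hs hrp).mpr hsr)
    have h3 : ⁅y, a⁆ = 1 := orderOf_eq_one_iff.mp (Nat.eq_one_of_dvd_coprimes hcop h1 h2)
    have e2 : a * y = (⁅y, a⁆)⁻¹ * (y * a) := by
      simp only [commutatorElement_def]; group
    rw [e2, h3, inv_one, one_mul]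
  -- the index of `C` in `K` is a power of `r`
  have hrelpow : ∃ m : ℕ, C.relIndex K = r ^ m := by
    refine ⟨_, Nat.eq_prime_pow_of_unique_prime_dvd hrel0 ?_⟩
    intro s hs hsd
    by_contra hsr
    have : Fact s.Prime := ⟨hs⟩
    obtain ⟨S, hSK, hScard, hSA⟩ :=
      Cfsg.Agent.Lib.Helper31.InvSylow.exists_invariant_sylow A K hA hK' hAK' s
    have hSC := hcent s hs hsr S hSK ⟨_, hScard⟩ hSA
    have h1 : s ^ (Nat.card K).factorization s ∣ Nat.card C :=
      hScard ▸ Subgroup.card_dvd_of_le hSC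
    have h2 : s ^ ((Nat.card K).factorization s + 1) ∣ Nat.card K := by
      have h3 := Nat.mul_dvd_mul h1 hsd
      rw [← hcardK, ← pow_succ] at h3
      exact h3
    exact Nat.pow_succ_factorization_not_dvd hKpos hs h2
  obtain ⟨m, hm⟩ := hrelpow
  -- an invariant Sylow `r`-subgroup
  obtain ⟨T, hTK, hTcard, hTA⟩ :=
    Cfsg.Agent.Lib.Helper31.InvSylow.exists_invariant_sylow A K hA hK' hAK' r
  have hTr : IsPGroup r T := IsPGroup.of_card hTcard
  have hCpos : Nat.card C ≠ 0 := Nat.card_pos.ne'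
  have hfac : (Nat.card K).factorization r = (Nat.card C).factorization r + m := by
    rw [hcardK, hm, Nat.factorization_mul hCpos (pow_pos hrp.pos m).ne', Finsupp.add_apply,
      hrp.factorization_pow, Finsupp.single_eq_same]
  have hle : C.relIndex K ≤ C.relIndex T := by
    have h1 : Nat.card T = Nat.card ↥(C ⊓ T) * (C ⊓ T).relIndex T :=
      Cfsg.Agent.Lib.Helper76.PSolv.card_eq_card_mul_relIndex inf_le_right
    rw [Subgroup.inf_relIndex_right] at h1
    have h2 : Nat.card ↥(C ⊓ T) ≤ r ^ (Nat.card C).factorization r :=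
      Cfsg.Agent.Lib.Helper31.InvSylow.card_le_of_isPGroup (C ⊓ T) C (hTr.to_le inf_le_right)
        inf_le_left
    rw [hTcard, hfac, pow_add] at h1
    rw [hm]
    have h3 : r ^ (Nat.card C).factorization r * r ^ m ≤
        r ^ (Nat.card C).factorization r * C.relIndex T := by
      rw [h1]
      exact Nat.mul_le_mul_right _ h2
    exact Nat.le_of_mul_le_mul_left h3 (pow_pos hrp.pos _)
  -- all commutators lie in `T`
  have hcomm : ⁅K, A⁆ ≤ T := by
    rw [Subgroup.commutator_le]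
    intro x hx a ha
    obtain ⟨t, ht, htx⟩ := exists_mul_of_relIndex_le K T C hTK hle x hx
    have hc : t⁻¹ * x ∈ Subgroup.centralizer (A : Set G) := (hCdef ▸ htx : _ ∈ K ⊓ _).2
    have hca : a * (t⁻¹ * x) = (t⁻¹ * x) * a := (Subgroup.mem_centralizer_iff.mp hc) a ha
    have e1 : ⁅x, a⁆ = t * ((t⁻¹ * x) * a) * (x⁻¹ * a⁻¹) := by
      simp only [commutatorElement_def]; group
    have e2 : t * (a * (t⁻¹ * x)) * (x⁻¹ * a⁻¹) = t * (a * t⁻¹ * a⁻¹) := by group
    rw [e1, ← hca, e2]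
    exact T.mul_mem ht (hTA a ha _ (T.inv_mem ht))
  exact hTr.to_le hcomm

section main

variable [Finite G] {p : ℕ} [Fact p.Prime]

open Cfsg.Agent.Lib.Helper48.Off1

theorem toGL_injective' (p : ℕ) : Function.Injective (Matrix.SpecialLinearGroup.toGL :
    Matrix.SpecialLinearGroup (Fin 2) (ZMod p) →* GL (Fin 2) (ZMod p)) := by
  intro a b hab
  apply Subtype.ext
  have := congrArg (fun u : GL (Fin 2) (ZMod p) => (u : Matrix (Fin 2) (Fin 2) (ZMod p))) hab
  exact this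

/-- commutators `[x, a]` have order dividing `(p^2-1)(p-1)`. -/
theorem comm_pow (V H K A : Subgroup G) (hV : IsElementaryAbelian p V)
    (hHV : H ≤ Subgroup.normalizer (V : Set G)) (hf : H ⊓ Subgroup.centralizer (V : Set G) = ⊥)
    (hKH : K ≤ H) (hKn : H ≤ Subgroup.normalizer (K : Set G)) (hKc : (Nat.card K).Coprime p)
    (hAH : A ≤ H) (hA : Nat.card A = p) (hVA : Nat.card ↥(⁅V, A⁆) = p)
    (x : G) (hx : x ∈ K) (a : G) (ha : a ∈ A) : ⁅x, a⁆ ^ ((p ^ 2 - 1) * (p - 1)) = 1 := by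
  have hp : p.Prime := Fact.out
  by_cases hxA : x ∈ Subgroup.centralizer (A : Set G)
  · have h1 : a * x = x * a := (Subgroup.mem_centralizer_iff.mp hxA) a ha
    have e1 : ⁅x, a⁆ = x * a * (a * x)⁻¹ := by simp only [commutatorElement_def]; group
    rw [e1, h1, mul_inv_cancel, one_pow]
  · obtain ⟨-, -, -, ⟨eL⟩⟩ := pair V H K A hV hHV hf hKH hKn hKc hAH hA hVA x hx hxA
    have hmemL : ⁅x, a⁆ ∈ A ⊔ A.map (MulAut.conj x).toMonoidHom := by
      have e1 : ⁅x, a⁆ = (x * a * x⁻¹) * a⁻¹ := by simp only [commutatorElement_def]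
      rw [e1]
      exact Subgroup.mul_mem _ (Subgroup.mem_sup_right ⟨a, ha, rfl⟩)
        (Subgroup.mem_sup_left (A.inv_mem ha))
    have hmemK : ⁅x, a⁆ ∈ K := by
      have e1 : ⁅x, a⁆ = x * (a * x⁻¹ * a⁻¹) := by simp only [commutatorElement_def]; group
      rw [e1]
      exact K.mul_mem hx ((Subgroup.mem_normalizer_iff.mp (hKn (hAH ha)) _).mp (K.inv_mem hx))
    have h1 : orderOf ⁅x, a⁆ ∣ Nat.card ↥(A ⊔ A.map (MulAut.conj x).toMonoidHom) :=
      Subgroup.orderOf_dvd_natCard _ hmemL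
    have h2 : Nat.card ↥(A ⊔ A.map (MulAut.conj x).toMonoidHom) ∣
        Nat.card (GL (Fin 2) (ZMod p)) :=
      Subgroup.card_dvd_of_injective (Matrix.SpecialLinearGroup.toGL.comp eL.toMonoidHom)
        ((toGL_injective' p).comp eL.injective)
    rw [Cfsg.Agent.Lib.Helper86.GL2.card_GL2] at h2
    have h3 : orderOf ⁅x, a⁆ ∣ Nat.card K := Subgroup.orderOf_dvd_natCard _ hmemK
    have hcop : (orderOf ⁅x, a⁆).Coprime p := Nat.Coprime.coprime_dvd_left h3 hKc
    have h4 : (p ^ 2 - 1) * (p ^ 2 - p) = p * ((p ^ 2 - 1) * (p - 1)) := by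
      have h5 : p ^ 2 - p = p * (p - 1) := by rw [Nat.mul_sub, mul_one, pow_two]
      rw [h5]; ring
    have h5 : orderOf ⁅x, a⁆ ∣ (p ^ 2 - 1) * (p - 1) :=
      hcop.dvd_of_dvd_mul_left (h4 ▸ h1.trans h2)
    exact orderOf_dvd_iff_pow_eq_one.mp h5

set_option maxRecDepth 100000 in
theorem decide_sl23 : ∀ g u : Matrix.SpecialLinearGroup (Fin 2) (ZMod 3), g ^ 3 = 1 → g ≠ 1 →
    u ^ 16 = 1 → u ≠ 1 → (u * g) ^ 3 = 1 → u * (g * u * g⁻¹) ≠ (g * u * g⁻¹) * u := by
  decide +kernel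

/-- **`[K, A]` for a transvection group `A`.** -/
theorem main (V H K A : Subgroup G) (hV : IsElementaryAbelian p V)
    (hHV : H ≤ Subgroup.normalizer (V : Set G)) (hf : H ⊓ Subgroup.centralizer (V : Set G) = ⊥)
    (hKH : K ≤ H) (hKn : H ≤ Subgroup.normalizer (K : Set G)) (hKc : (Nat.card K).Coprime p)
    (hCK : H ⊓ Subgroup.centralizer (K : Set G) ≤ K)
    (hAH : A ≤ H) (hA : Nat.card A = p) (hVA : Nat.card ↥(⁅V, A⁆) = p) :
    (p = 2 ∧ IsPGroup 3 ↥(⁅K, A⁆)) ∨
      (p = 3 ∧ IsPGroup 2 ↥(⁅K, A⁆) ∧ ¬ IsMulCommutative ↥(⁅K, A⁆)) := by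
  have hp : p.Prime := Fact.out
  have hAK0 : A ⊓ K = ⊥ :=
    (Subgroup.disjoint_of_coprime_natCard (by rw [hA]; exact hKc.symm)).eq_bot
  have hex : ∃ x ∈ K, x ∉ Subgroup.centralizer (A : Set G) := by
    by_contra hcon
    have hcon' : ∀ k ∈ K, k ∈ Subgroup.centralizer (A : Set G) := by
      intro k hk
      by_contra h
      exact hcon ⟨k, hk, h⟩
    have h1 : A ≤ Subgroup.centralizer (K : Set G) := by
      intro a ha
      rw [Subgroup.mem_centralizer_iff]
      intro k hk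
      exact ((Subgroup.mem_centralizer_iff.mp (hcon' k hk)) a ha).symm
    have h2 : A ≤ A ⊓ K := fun a ha => ⟨ha, hCK ⟨hAH ha, h1 ha⟩⟩
    rw [hAK0] at h2
    have h3 : A = ⊥ := le_bot_iff.mp h2
    rw [h3, Subgroup.card_bot] at hA
    exact hp.one_lt.ne hA
  obtain ⟨x₀, hx₀, hx₀A⟩ := hex
  obtain ⟨hp23, -, -, ⟨eL⟩⟩ := pair V H K A hV hHV hf hKH hKn hKc hAH hA hVA x₀ hx₀ hx₀A
  have hApg : IsPGroup p A := IsPGroup.of_card (n := 1) (by rw [hA, pow_one])
  have hAKn : A ≤ Subgroup.normalizer (K : Set G) := hAH.trans hKn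
  have hpow := comm_pow V H K A hV hHV hf hKH hKn hKc hAH hA hVA
  rcases hp23 with h2 | h3
  · left
    subst h2
    refine ⟨rfl, ?_⟩
    have : Fact (Nat.Prime 3) := ⟨Nat.prime_three⟩
    apply commutator_isPGroup (p := 2) (r := 3) K A hApg hKc hAKn
    intro x hx a ha
    exact ⟨1, by simpa using hpow x hx a ha⟩
  · right
    subst h3
    refine ⟨rfl, ?_, ?_⟩
    · apply commutator_isPGroup (p := 3) (r := 2) K A hApg hKc hAKn
      intro x hx a ha
      exact ⟨4, by simpa using hpow x hx a ha⟩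
    · intro hcomm
      have hex2 : ∃ a ∈ A, a * x₀ ≠ x₀ * a := by
        by_contra hcon
        apply hx₀A
        rw [Subgroup.mem_centralizer_iff]
        intro a ha
        by_contra h
        exact hcon ⟨a, ha, h⟩
      obtain ⟨a, ha, hax⟩ := hex2
      obtain ⟨u, hu⟩ : ∃ u : G, u = ⁅x₀, a⁆ := ⟨_, rfl⟩
      have hu' : u = x₀ * a * x₀⁻¹ * a⁻¹ := by rw [hu, commutatorElement_def]
      have huKA : u ∈ ⁅K, A⁆ := hu ▸ Subgroup.commutator_mem_commutator hx₀ ha
      have hvKA : a * u * a⁻¹ ∈ ⁅K, A⁆ := by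
        have e1 : a * u * a⁻¹ = ⁅a * x₀ * a⁻¹, a⁆ := by
          rw [hu', commutatorElement_def]; group
        rw [e1]
        exact Subgroup.commutator_mem_commutator
          ((Subgroup.mem_normalizer_iff.mp (hAKn ha) _).mp hx₀) ha
      have huv : u * (a * u * a⁻¹) = (a * u * a⁻¹) * u := setLike_mul_comm huKA hvKA
      have haL : a ∈ A ⊔ A.map (MulAut.conj x₀).toMonoidHom := Subgroup.mem_sup_left ha
      have huL : u ∈ A ⊔ A.map (MulAut.conj x₀).toMonoidHom := by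
        rw [hu']
        exact Subgroup.mul_mem _ (Subgroup.mem_sup_right ⟨a, ha, rfl⟩)
          (Subgroup.mem_sup_left (A.inv_mem ha))
      have ha3 : a ^ 3 = 1 := by
        have := Subgroup.orderOf_dvd_natCard A ha
        rw [hA] at this
        exact orderOf_dvd_iff_pow_eq_one.mp this
      have hu16 : u ^ 16 = 1 := by
        have := hpow x₀ hx₀ a ha
        rw [← hu] at this
        simpa using this
      have hu1 : u ≠ 1 := by
        intro h1
        apply hax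
        rw [hu'] at h1
        calc a * x₀ = (x₀ * a * x₀⁻¹ * a⁻¹)⁻¹ * (x₀ * a) := by group
          _ = x₀ * a := by rw [h1, inv_one, one_mul]
      have ha1 : a ≠ 1 := by
        intro h1
        apply hax
        rw [h1, one_mul, mul_one]
      have hua3 : (u * a) ^ 3 = 1 := by
        have e1 : u * a = x₀ * a * x₀⁻¹ := by rw [hu']; group
        rw [e1, conj_pow, ha3]; group
      apply decide_sl23 (eL ⟨a, haL⟩) (eL ⟨u, huL⟩)
      · rw [← map_pow]
        have : (⟨a, haL⟩ : ↥(A ⊔ A.map (MulAut.conj x₀).toMonoidHom)) ^ 3 = 1 :=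
          Subtype.ext (by rw [Subgroup.coe_pow]; exact ha3)
        rw [this, map_one]
      · intro h1
        have h2 := eL.injective (h1.trans (map_one eL).symm)
        exact ha1 (congrArg Subtype.val h2)
      · rw [← map_pow]
        have : (⟨u, huL⟩ : ↥(A ⊔ A.map (MulAut.conj x₀).toMonoidHom)) ^ 16 = 1 :=
          Subtype.ext (by rw [Subgroup.coe_pow]; exact hu16)
        rw [this, map_one]
      · intro h1
        have h2 := eL.injective (h1.trans (map_one eL).symm)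
        exact hu1 (congrArg Subtype.val h2)
      · rw [← map_mul, ← map_pow]
        have : ((⟨u, huL⟩ : ↥(A ⊔ A.map (MulAut.conj x₀).toMonoidHom)) * ⟨a, haL⟩) ^ 3 = 1 :=
          Subtype.ext (by rw [Subgroup.coe_pow]; exact hua3)
        rw [this, map_one]
      · have h : (⟨u, huL⟩ : ↥(A ⊔ A.map (MulAut.conj x₀).toMonoidHom)) *
            (⟨a, haL⟩ * ⟨u, huL⟩ * ⟨a, haL⟩⁻¹) = (⟨a, haL⟩ * ⟨u, huL⟩ * ⟨a, haL⟩⁻¹) * ⟨u, huL⟩ :=
          Subtype.ext huv
        have h2 := congrArg eL h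
        simpa only [map_mul, map_inv] using h2

end main

end Cfsg.Agent.Lib.Helper48.Off2
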