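import Mathlib
import Cfsg.Prelude.Def_LocalStructure
import Cfsg.Agent.Lib.Helper24.Coprime
import Cfsg.Agent.Lib.Helper33.Conj
import Cfsg.Agent.Lib.Helper48.StrEmb
import Cfsg.Agent.Lib.Helper48.CharP

set_option autoImplicit false

/-!
Large `p`-subgroups (`C_H(Q) ≤ Q` and the `Q!`-property): centralizers of `O_p(L)` for `Q ≤ L`,
weak closures, parabolic characteristic `p`.
-/

namespace Cfsg.Agent.Lib.Helper48.Large

open Subgroup Cfsg.Agent.Lib.Helper48.CharP Cfsg.Agent.Lib.Helper33.Conj
open scoped commutatorElement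

variable {H : Type*} [Group H]

/-- Conjugates of large subgroups are large. -/
lemma isLarge_cj {Q : Subgroup H} (hL : Cfsg.IsLarge Q) (g : H) :
    Cfsg.IsLarge (Q.map (MulAut.conj g).toMonoidHom) := by
  refine ⟨?_, ?_⟩
  · rw [centralizer_cj]
    exact cj_mono hL.1
  · intro U hU hU1
    rw [centralizer_cj] at hU
    have h1 : U.map (MulAut.conj g⁻¹).toMonoidHom ≤ centralizer (Q : Set H) := by
      have := cj_mono (g := g⁻¹) hU
      rwa [cj_inv_cj] at this
    have h2 : U.map (MulAut.conj g⁻¹).toMonoidHom ≠ ⊥ := by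
      rw [Ne, Subgroup.map_eq_bot_iff_of_injective _ (cj_injective g⁻¹)]
      exact hU1
    have h3 := hL.2 _ h1 h2
    rw [normalizer_cj] at h3
    rw [normalizer_cj]
    have := cj_mono (g := g) h3
    rwa [cj_cj_inv] at this

lemma eq_one_of_mem_of_coprime {p : ℕ} {P : Subgroup H} (hP : IsPGroup p P) {a : H} (ha : a ∈ P)
    (hcop : (orderOf a).Coprime p) : a = 1 := by
  obtain ⟨k, hk⟩ := hP ⟨a, ha⟩
  have hk' : a ^ p ^ k = 1 := by simpa using congrArg Subtype.val hk
  have hdvd : orderOf a ∣ p ^ k := orderOf_dvd_of_pow_eq_one hk'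
  have : orderOf a = 1 := Nat.Coprime.eq_one_of_dvd (Nat.Coprime.pow_right k hcop) hdvd
  exact orderOf_eq_one_iff.mp this

/-- If `Q` is a large `p`-subgroup of `H`, `Q ≤ L` and `O_p(L) ≠ 1`, then `C_H(O_p(L))` is a
`p`-group. -/
theorem centralizer_O_isPGroup [Finite H] {p : ℕ} [Fact p.Prime] {Q : Subgroup H}
    (hQp : IsPGroup p Q) (hL : Cfsg.IsLarge Q) {L : Subgroup H} (hQL : Q ≤ L)
    (hP : O p L ≠ ⊥) : IsPGroup p (centralizer (O p L : Set H)) := by
  have hPp : IsPGroup p (O p L) := O_isPGroup p L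
  have hQP : Q ≤ normalizer (O p L : Set H) := hQL.trans (O_normalizer p L)
  have hPQ : IsPGroup p (O p L ⊔ Q : Subgroup H) :=
    IsPGroup.to_sup_of_normal_left' hPp hQp hQP
  have hPQn : O p L ⊔ Q ≤ normalizer (O p L : Set H) := sup_le le_normalizer hQP
  have hne : (O p L ⊔ Q) ⊓ O p L ≠ ⊥ := by
    rw [inf_eq_right.mpr le_sup_left]
    exact hP
  obtain ⟨u, -, huP, hup, huZ⟩ := exists_central_orderOf hPQ hPQn hne
  have hu1 : u ≠ 1 := by
    rintro rfl
    rw [orderOf_one] at hup
    exact (Fact.out : p.Prime).ne_one hup.symm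
  have huQ : zpowers u ≤ centralizer (Q : Set H) := by
    rw [zpowers_le, mem_centralizer_iff]
    intro q hq
    exact huZ q (le_sup_right (a := O p L) hq)
  have hN := hL.2 (zpowers u) huQ (by rw [Ne, zpowers_eq_bot]; exact hu1)
  have hDQ : centralizer (O p L : Set H) ≤ normalizer (Q : Set H) := by
    intro d hd
    apply hN
    apply Cfsg.Agent.Lib.Helper48.StrEmb.centralizer_singleton_le_normalizer_zpowers u
    rw [mem_centralizer_iff]
    intro y hy
    rw [Set.mem_singleton_iff] at hy
    subst hy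
    exact mem_centralizer_iff.mp hd _ huP
  have hLD : L ≤ normalizer ((centralizer (O p L : Set H) : Subgroup H) : Set H) :=
    fun l hl => mem_normalizer_centralizer (O_normalizer p L hl)
  have hQ₀ : Q ⊓ centralizer (O p L : Set H) ≤ O p L := by
    have h1 : Q ⊓ centralizer (O p L : Set H) ≤ O p (L ⊓ centralizer (O p L : Set H)) := by
      apply le_O (inf_le_inf_right _ hQL) (hQp.to_le inf_le_left)
      intro d hd
      exact mem_normalizer_inf (hDQ (mem_inf.mp hd).2) (le_normalizer (mem_inf.mp hd).2)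
    have h2 : O p (L ⊓ centralizer (O p L : Set H)) ≤ O p L := by
      apply le_O ((O_le p _).trans inf_le_left) (O_isPGroup p _)
      refine le_trans ?_ (normalizer_le_normalizer_O p _)
      intro l hl
      exact mem_normalizer_inf (le_normalizer hl) (hLD hl)
    exact h1.trans h2
  apply isPGroup_of_forall_coprime
  intro a ha hcop
  have haQ : a ∈ centralizer (Q : Set H) := by
    rw [mem_centralizer_iff]
    intro x hx
    have hcop' : (orderOf a).Coprime (Nat.card Q) := by
      obtain ⟨n, hn⟩ := IsPGroup.iff_card.mp hQp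
      rw [hn]
      exact Nat.Coprime.pow_right n hcop
    apply Cfsg.Agent.Lib.Helper24.Coprime.commute_of_commutator_commute (hDQ ha) hcop' hx
    have hc : ⁅x, a⁆ ∈ Q ⊓ centralizer (O p L : Set H) := by
      refine mem_inf.mpr
        ⟨Cfsg.Agent.Lib.Helper24.Coprime.commutator_mem_of_mem_normalizer hx (hDQ ha), ?_⟩
      rw [commutatorElement_def]
      exact mul_mem ((mem_normalizer_iff.mp (hLD (hQL hx)) a).mp ha) (inv_mem ha)
    exact mem_centralizer_iff.mp ha _ (hQ₀ hc)
  exact eq_one_of_mem_of_coprime hQp (hL.1 haQ) hcop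

/-- If `Q` is a large `p`-subgroup of `H`, `Q ≤ L` and `O_p(L) ≠ 1`, then `L` has
characteristic `p`. -/
theorem chP_of_le [Finite H] {p : ℕ} [Fact p.Prime] {Q : Subgroup H}
    (hQp : IsPGroup p Q) (hL : Cfsg.IsLarge Q) {L : Subgroup H} (hQL : Q ≤ L)
    (hP : O p L ≠ ⊥) : ChP p L := by
  apply le_O inf_le_left ((centralizer_O_isPGroup hQp hL hQL hP).to_le inf_le_right)
  intro l hl
  exact mem_normalizer_inf (le_normalizer hl) (mem_normalizer_centralizer (O_normalizer p L hl))

/-- If `Q` is a large `p`-subgroup, a parabolic subgroup `R` with `O_p(R) ≠ 1` satisfies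
`C_H(O_p(R)) ≤ O_p(R)`. -/
theorem centralizer_O_le_of_parabolic [Finite H] {p : ℕ} [Fact p.Prime] {Q : Subgroup H}
    (hQp : IsPGroup p Q) (hL : Cfsg.IsLarge Q) {R : Subgroup H} (hR : Cfsg.IsParabolic p R)
    (hP : O p R ≠ ⊥) : centralizer (O p R : Set H) ≤ O p R := by
  obtain ⟨T, hT⟩ := hR
  obtain ⟨g, hg⟩ := exists_cj_le_sylow T hQp
  have hLg := isLarge_cj hL g
  have hD := centralizer_O_isPGroup (isPGroup_cj g hQp) hLg (hg.trans hT) hP
  have hRD : R ≤ normalizer ((centralizer (O p R : Set H) : Subgroup H) : Set H) :=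
    fun r hr => mem_normalizer_centralizer (O_normalizer p R hr)
  have hDT : centralizer (O p R : Set H) ≤ T := by
    have h1 : IsPGroup p (centralizer (O p R : Set H) ⊔ (T : Subgroup H) : Subgroup H) :=
      IsPGroup.to_sup_of_normal_left' hD T.isPGroup' (hT.trans hRD)
    have h2 := T.is_maximal' h1 le_sup_right
    rw [← h2]
    exact le_sup_left
  exact le_O (hDT.trans hT) hD hRD

/-- A finite group with a large `p`-subgroup has parabolic characteristic `p`. -/
theorem parabolicCharacteristic [Finite H] {p : ℕ} [Fact p.Prime] {Q : Subgroup H}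
    (hQp : IsPGroup p Q) (hL : Cfsg.IsLarge Q) : Cfsg.IsOfParabolicCharacteristic p H := by
  intro R₀ hR₀ hR₀1 hpar
  rw [Cfsg.Agent.Lib.Helper48.CharP.charP_iff]
  have hP : O p (normalizer (R₀ : Set H)) ≠ ⊥ := by
    intro h
    apply hR₀1
    rw [eq_bot_iff, ← h]
    exact le_O le_normalizer hR₀ le_rfl
  exact inf_le_right.trans (centralizer_O_le_of_parabolic hQp hL hpar hP)

/-- The weak closure of a large `p`-subgroup `Q` in `L ≥ Q` is `Q` or has trivial centralizer. -/
theorem weakClosure_eq_or [Finite H] {p : ℕ} [Fact p.Prime] {Q : Subgroup H}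
    (hQp : IsPGroup p Q) (hQ1 : Q ≠ ⊥) (hL : Cfsg.IsLarge Q) (L : Subgroup H) (hQL : Q ≤ L) :
    Cfsg.weakClosure Q L = Q ∨
      centralizer ((Cfsg.weakClosure Q L : Subgroup H) : Set H) = ⊥ := by
  by_cases hA : centralizer ((Cfsg.weakClosure Q L : Subgroup H) : Set H) = ⊥
  · exact Or.inr hA
  left
  have hle : ∀ g : H, Q.map (MulAut.conj g).toMonoidHom ≤ L →
      Q.map (MulAut.conj g).toMonoidHom ≤ Cfsg.weakClosure Q L := by
    intro g hg
    exact le_iSup (fun g : {g : H // Q.map (MulAut.conj g).toMonoidHom ≤ L} =>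
      Q.map (MulAut.conj (g : H)).toMonoidHom) ⟨g, hg⟩
  have hQw : Q ≤ Cfsg.weakClosure Q L := by
    have := hle 1 (by rw [cj_one]; exact hQL)
    rwa [cj_one] at this
  have key : ∀ g : H, Q.map (MulAut.conj g).toMonoidHom ≤ L →
      Q.map (MulAut.conj g).toMonoidHom = Q := by
    intro g hg
    have hLg : Cfsg.IsLarge (Q.map (MulAut.conj g).toMonoidHom) := isLarge_cj hL g
    have hAQ : centralizer ((Cfsg.weakClosure Q L : Subgroup H) : Set H) ≤
        centralizer (Q : Set H) := centralizer_le hQw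
    have hAQg : centralizer ((Cfsg.weakClosure Q L : Subgroup H) : Set H) ≤
        centralizer ((Q.map (MulAut.conj g).toMonoidHom : Subgroup H) : Set H) :=
      centralizer_le (hle g hg)
    have hNA := hL.2 _ hAQ hA
    have hNAg := hLg.2 _ hAQg hA
    have hQA : Q ≤ normalizer
        ((centralizer ((Cfsg.weakClosure Q L : Subgroup H) : Set H) : Subgroup H) : Set H) := by
      intro q hq
      apply Cfsg.Agent.Lib.Helper24.Coprime.mem_normalizer_of_commute
      intro b hb
      exact (mem_centralizer_iff.mp (hAQ hb) q hq).symm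
    have hQgA : Q.map (MulAut.conj g).toMonoidHom ≤ normalizer
        ((centralizer ((Cfsg.weakClosure Q L : Subgroup H) : Set H) : Subgroup H) : Set H) := by
      intro q hq
      apply Cfsg.Agent.Lib.Helper24.Coprime.mem_normalizer_of_commute
      intro b hb
      exact (mem_centralizer_iff.mp (hAQg hb) q hq).symm
    have hR : IsPGroup p (Q ⊔ Q.map (MulAut.conj g).toMonoidHom : Subgroup H) :=
      IsPGroup.to_sup_of_normal_left' hQp (isPGroup_cj g hQp) (hQgA.trans hNA)
    obtain ⟨S, hRS⟩ := hR.exists_le_sylow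
    have hQS : Q ≤ S := le_sup_left.trans hRS
    have hQgS : Q.map (MulAut.conj g).toMonoidHom ≤ S := le_sup_right.trans hRS
    have hSne : (S : Subgroup H) ⊓ (S : Subgroup H) ≠ ⊥ := by
      rw [inf_idem]
      intro h
      apply hQ1
      rw [eq_bot_iff, ← h]
      exact hQS
    obtain ⟨z, hzS, -, hzp, hzZ⟩ := exists_central_orderOf S.isPGroup' le_normalizer hSne
    have hZ1 : (S : Subgroup H) ⊓ centralizer ((S : Subgroup H) : Set H) ≠ ⊥ := by
      intro h
      have hz : z ∈ (S : Subgroup H) ⊓ centralizer ((S : Subgroup H) : Set H) :=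
        mem_inf.mpr ⟨hzS, by rw [mem_centralizer_iff]; exact hzZ⟩
      rw [h, mem_bot] at hz
      rw [hz, orderOf_one] at hzp
      exact (Fact.out : p.Prime).ne_one hzp.symm
    have hZQ : (S : Subgroup H) ⊓ centralizer ((S : Subgroup H) : Set H) ≤
        centralizer (Q : Set H) := inf_le_right.trans (centralizer_le hQS)
    have hZQg : (S : Subgroup H) ⊓ centralizer ((S : Subgroup H) : Set H) ≤
        centralizer ((Q.map (MulAut.conj g).toMonoidHom : Subgroup H) : Set H) :=
      inf_le_right.trans (centralizer_le hQgS)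
    have hNZ := hL.2 _ hZQ hZ1
    have hNZg := hLg.2 _ hZQg hZ1
    have hNS : normalizer ((S : Subgroup H) : Set H) ≤ normalizer
        (((S : Subgroup H) ⊓ centralizer ((S : Subgroup H) : Set H) : Subgroup H) : Set H) :=
      fun n hn => mem_normalizer_inf hn (mem_normalizer_centralizer hn)
    have hSQ : (S : Subgroup H) ≤ normalizer (Q : Set H) :=
      le_normalizer.trans (hNS.trans hNZ)
    have hSQg : (S : Subgroup H) ≤
        normalizer ((Q.map (MulAut.conj g).toMonoidHom : Subgroup H) : Set H) :=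
      le_normalizer.trans (hNS.trans hNZg)
    have hS1 : IsSylIn p (S : Subgroup H)
        (normalizer ((Q.map (MulAut.conj g).toMonoidHom : Subgroup H) : Set H)) :=
      isSylIn_of_sylow S hSQg
    have hS2 : IsSylIn p ((S : Subgroup H).map (MulAut.conj g).toMonoidHom)
        (normalizer ((Q.map (MulAut.conj g).toMonoidHom : Subgroup H) : Set H)) := by
      have := (isSylIn_of_sylow S hSQ).cj g
      rwa [← normalizer_cj] at this
    obtain ⟨n, hn, hnS⟩ := hS1.exists_cj_eq hS2
    rw [cj_cj] at hnS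
    have hng : n * g ∈ normalizer ((S : Subgroup H) : Set H) :=
      mem_normalizer_iff_cj_eq.mpr hnS
    have e1 : Q.map (MulAut.conj (n * g)).toMonoidHom = Q :=
      cj_eq_of_mem_normalizer (hNZ (hNS hng))
    have e2 := cj_eq_of_mem_normalizer hn
    rw [cj_cj, e1] at e2
    exact e2.symm
  apply le_antisymm _ hQw
  apply iSup_le
  rintro ⟨g, hg⟩
  exact (key g hg).le

end Cfsg.Agent.Lib.Helper48.Large
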