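import Mathlib
import Cfsg.Prelude.Def_LocalStructure
import Cfsg.Agent.Lib.Helper24.Coprime
import Cfsg.Agent.Lib.Helper33.Conj
import Cfsg.Agent.Lib.Helper48.StrEmb
import Cfsg.Agent.Lib.Helper48.CharP
import Cfsg.Agent.Lib.Helper48.Large

set_option autoImplicit false

/-!
Large `p`-subgroups, continued: conjugates of `Q` with a common central element coincide;
`C_H(Y)` normalizes large subgroups of `N_H(Y)`; weak closures in `L` and in `L C_H(Y)`.
-/

namespace Cfsg.Agent.Lib.Helper48.Large2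

open Subgroup Cfsg.Agent.Lib.Helper48.CharP Cfsg.Agent.Lib.Helper33.Conj
  Cfsg.Agent.Lib.Helper48.Large
open scoped commutatorElement Pointwise

variable {H : Type*} [Group H]

/-- If a nontrivial subgroup centralizes both the large `p`-subgroup `Q` and its conjugate
`Q^g`, then `Q^g = Q`. -/
theorem cj_eq_of_common_centralizer [Finite H] {p : ℕ} [Fact p.Prime] {Q : Subgroup H}
    (hQp : IsPGroup p Q) (hQ1 : Q ≠ ⊥) (hL : Cfsg.IsLarge Q) (g : H) (A : Subgroup H)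
    (hA : A ≠ ⊥) (hAQ : A ≤ centralizer (Q : Set H))
    (hAQg : A ≤ centralizer ((Q.map (MulAut.conj g).toMonoidHom : Subgroup H) : Set H)) :
    Q.map (MulAut.conj g).toMonoidHom = Q := by
  have hLg : Cfsg.IsLarge (Q.map (MulAut.conj g).toMonoidHom) := isLarge_cj hL g
  have hNA := hL.2 _ hAQ hA
  have hNAg := hLg.2 _ hAQg hA
  have hQgA : Q.map (MulAut.conj g).toMonoidHom ≤ normalizer (A : Set H) := by
    intro q hq
    apply Cfsg.Agent.Lib.Helper24.Coprime.mem_normalizer_of_commute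
    intro b hb
    exact (mem_centralizer_iff.mp (hAQg hb) q hq).symm
  have hR : IsPGroup p (Q ⊔ Q.map (MulAut.conj g).toMonoidHom : Subgroup H) :=
    IsPGroup.to_sup_of_normal_left' hQp (isPGroup_cj g hQp) (hQgA.trans hNA)
  obtain ⟨S, hRS⟩ := hR.exists_le_sylow
  have hQS : Q ≤ S := le_sup_left.trans hRS
  have hQgS : Q.map (MulAut.conj g).toMonoidHom ≤ S := le_sup_right.trans hRS
  have hSne : (S : Subgroup H) ⊓ (S : Subgroup H) ≠ ⊥ := by
    rw [inf_idem]
    intro h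
    apply hQ1
    rw [eq_bot_iff, ← h]
    exact hQS
  obtain ⟨z, hzS, -, hzp, hzZ⟩ := exists_central_orderOf S.isPGroup' le_normalizer hSne
  have hZ1 : (S : Subgroup H) ⊓ centralizer ((S : Subgroup H) : Set H) ≠ ⊥ := by
    intro h
    have hz : z ∈ (S : Subgroup H) ⊓ centralizer ((S : Subgroup H) : Set H) :=
      mem_inf.mpr ⟨hzS, by rw [mem_centralizer_iff]; exact hzZ⟩
    rw [h, mem_bot] at hz
    rw [hz, orderOf_one] at hzp
    exact (Fact.out : p.Prime).ne_one hzp.symm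
  have hZQ : (S : Subgroup H) ⊓ centralizer ((S : Subgroup H) : Set H) ≤
      centralizer (Q : Set H) := inf_le_right.trans (centralizer_le hQS)
  have hZQg : (S : Subgroup H) ⊓ centralizer ((S : Subgroup H) : Set H) ≤
      centralizer ((Q.map (MulAut.conj g).toMonoidHom : Subgroup H) : Set H) :=
    inf_le_right.trans (centralizer_le hQgS)
  have hNZ := hL.2 _ hZQ hZ1
  have hNZg := hLg.2 _ hZQg hZ1
  have hNS : normalizer ((S : Subgroup H) : Set H) ≤ normalizer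
      (((S : Subgroup H) ⊓ centralizer ((S : Subgroup H) : Set H) : Subgroup H) : Set H) :=
    fun n hn => mem_normalizer_inf hn (mem_normalizer_centralizer hn)
  have hSQ : (S : Subgroup H) ≤ normalizer (Q : Set H) :=
    le_normalizer.trans (hNS.trans hNZ)
  have hSQg : (S : Subgroup H) ≤
      normalizer ((Q.map (MulAut.conj g).toMonoidHom : Subgroup H) : Set H) :=
    le_normalizer.trans (hNS.trans hNZg)
  have hS1 : IsSylIn p (S : Subgroup H)
      (normalizer ((Q.map (MulAut.conj g).toMonoidHom : Subgroup H) : Set H)) :=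
    isSylIn_of_sylow S hSQg
  have hS2 : IsSylIn p ((S : Subgroup H).map (MulAut.conj g).toMonoidHom)
      (normalizer ((Q.map (MulAut.conj g).toMonoidHom : Subgroup H) : Set H)) := by
    have := (isSylIn_of_sylow S hSQ).cj g
    rwa [← normalizer_cj] at this
  obtain ⟨n, hn, hnS⟩ := hS1.exists_cj_eq hS2
  rw [cj_cj] at hnS
  have hng : n * g ∈ normalizer ((S : Subgroup H) : Set H) :=
    mem_normalizer_iff_cj_eq.mpr hnS
  have e1 : Q.map (MulAut.conj (n * g)).toMonoidHom = Q :=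
    cj_eq_of_mem_normalizer (hNZ (hNS hng))
  have e2 := cj_eq_of_mem_normalizer hn
  rw [cj_cj, e1] at e2
  exact e2.symm

/-- A `p`-group `R` normalizing a nontrivial `p`-group `Y` centralizes an element of order `p`
of `Y`. -/
lemma exists_fixed [Finite H] {p : ℕ} [Fact p.Prime] {R Y : Subgroup H} (hRp : IsPGroup p R)
    (hYp : IsPGroup p Y) (hY1 : Y ≠ ⊥) (hRY : R ≤ normalizer (Y : Set H)) :
    ∃ u ∈ Y, orderOf u = p ∧ ∀ r ∈ R, r * u = u * r := by
  have hPQ : IsPGroup p (Y ⊔ R : Subgroup H) := IsPGroup.to_sup_of_normal_left' hYp hRp hRY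
  have hPQn : Y ⊔ R ≤ normalizer (Y : Set H) := sup_le le_normalizer hRY
  have hne : (Y ⊔ R) ⊓ Y ≠ ⊥ := by
    rw [inf_eq_right.mpr le_sup_left]
    exact hY1
  obtain ⟨u, -, huY, hup, huZ⟩ := exists_central_orderOf hPQ hPQn hne
  exact ⟨u, huY, hup, fun r hr => huZ r (le_sup_right (a := Y) hr)⟩

/-- If the large `p`-subgroup `Q` normalizes the nontrivial `p`-subgroup `Y`, then `C_H(Y)`
normalizes `Q`. -/
theorem centralizer_le_normalizer [Finite H] {p : ℕ} [Fact p.Prime] {Q Y : Subgroup H}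
    (hQp : IsPGroup p Q) (hL : Cfsg.IsLarge Q) (hYp : IsPGroup p Y) (hY1 : Y ≠ ⊥)
    (hQY : Q ≤ normalizer (Y : Set H)) : centralizer (Y : Set H) ≤ normalizer (Q : Set H) := by
  obtain ⟨u, huY, hup, huQ⟩ := exists_fixed hQp hYp hY1 hQY
  have hu1 : u ≠ 1 := by
    rintro rfl
    rw [orderOf_one] at hup
    exact (Fact.out : p.Prime).ne_one hup.symm
  have huQ' : zpowers u ≤ centralizer (Q : Set H) := by
    rw [zpowers_le, mem_centralizer_iff]
    exact huQ
  have hN := hL.2 (zpowers u) huQ' (by rw [Ne, zpowers_eq_bot]; exact hu1)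
  intro d hd
  apply hN
  apply Cfsg.Agent.Lib.Helper48.StrEmb.centralizer_singleton_le_normalizer_zpowers u
  rw [mem_centralizer_iff]
  intro y hy
  rw [Set.mem_singleton_iff] at hy
  subst hy
  exact mem_centralizer_iff.mp hd _ huY

/-- A Sylow `p`-subgroup covers a quotient that is a `p`-group. -/
lemma sylow_sup_eq_top {G : Type*} [Group G] [Finite G] {p : ℕ} [Fact p.Prime] (K : Subgroup G)
    [K.Normal] (hK : ∀ g : G, ∃ k : ℕ, g ^ p ^ k ∈ K) (P : Sylow p G) :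
    (P : Subgroup G) ⊔ K = ⊤ := by
  have hq : IsPGroup p (G ⧸ K) := by
    intro x
    obtain ⟨g, rfl⟩ := QuotientGroup.mk_surjective x
    obtain ⟨k, hk⟩ := hK g
    refine ⟨k, ?_⟩
    rw [← QuotientGroup.mk_pow]
    exact (QuotientGroup.eq_one_iff _).mpr hk
  obtain ⟨n, hn⟩ := IsPGroup.iff_card.mp hq
  have h1 : ((P : Subgroup G) ⊔ K).index ∣ p ^ n := by
    rw [← hn, ← Subgroup.index_eq_card]
    exact Subgroup.index_dvd_of_le le_sup_right
  have h2 : ((P : Subgroup G) ⊔ K).index ∣ (P : Subgroup G).index :=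
    Subgroup.index_dvd_of_le le_sup_left
  have h3 : ¬ p ∣ ((P : Subgroup G) ⊔ K).index := fun h => P.not_dvd_index (h.trans h2)
  have h4 : (((P : Subgroup G) ⊔ K).index).Coprime (p ^ n) :=
    Nat.Coprime.pow_right n ((Nat.Prime.coprime_iff_not_dvd (Fact.out : p.Prime)).mpr h3).symm
  exact Subgroup.index_eq_one.mp (Nat.Coprime.eq_one_of_dvd h4 h1)

lemma pow_mul_mem {C : Subgroup H} {x c : H} (hx : x ∈ normalizer (C : Set H)) (hc : c ∈ C)
    (n : ℕ) : ∃ c' ∈ C, (x * c) ^ n = x ^ n * c' := by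
  induction n with
  | zero => exact ⟨1, one_mem _, by simp⟩
  | succ n ih =>
    obtain ⟨c', hc', h⟩ := ih
    refine ⟨x⁻¹ * c' * x * c, mul_mem ?_ hc, ?_⟩
    · have := (mem_normalizer_iff.mp (inv_mem hx) c').mp hc'
      simpa using this
    · rw [pow_succ, h, pow_succ]
      group

/-- A `p`-subgroup `Q₁` of `L C` (with `L ≤ N(C)`) lies in `T C` for some `p`-subgroup `T` of
`L`. -/
theorem exists_le_sup [Finite H] {p : ℕ} [Fact p.Prime] {L C Q₁ : Subgroup H}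
    (hLC : L ≤ normalizer (C : Set H)) (hQ₁p : IsPGroup p Q₁) (hQ₁ : Q₁ ≤ L ⊔ C) :
    ∃ T : Subgroup H, T ≤ L ∧ IsPGroup p T ∧ Q₁ ≤ T ⊔ C := by
  have hNC : L ⊔ C ≤ normalizer (C : Set H) := sup_le hLC le_normalizer
  have hQ₁C : Q₁ ≤ normalizer (C : Set H) := hQ₁.trans hNC
  have hn : (C.subgroupOf (L ⊓ (Q₁ ⊔ C))).Normal := by
    rw [normal_subgroupOf_iff_le_normalizer_inf]
    intro l hl
    exact mem_normalizer_inf (hLC (mem_inf.mp hl).1) (le_normalizer hl)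
  have hK : ∀ g : ↥(L ⊓ (Q₁ ⊔ C)), ∃ k : ℕ, g ^ p ^ k ∈ C.subgroupOf (L ⊓ (Q₁ ⊔ C)) := by
    rintro ⟨l, hl⟩
    have hl2 : l ∈ ((Q₁ ⊔ C : Subgroup H) : Set H) := (mem_inf.mp hl).2
    rw [coe_mul_of_left_le_normalizer_right Q₁ C hQ₁C] at hl2
    obtain ⟨x, hx, c, hc, rfl⟩ := hl2
    obtain ⟨k, hk⟩ := hQ₁p ⟨x, hx⟩
    have hk' : x ^ p ^ k = 1 := by simpa using congrArg Subtype.val hk
    obtain ⟨c', hc', h⟩ := pow_mul_mem (hQ₁C hx) hc (p ^ k)
    refine ⟨k, ?_⟩
    rw [mem_subgroupOf]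
    show (x * c) ^ p ^ k ∈ C
    rw [h, hk', one_mul]
    exact hc'
  obtain ⟨P⟩ : Nonempty (Sylow p ↥(L ⊓ (Q₁ ⊔ C))) := inferInstance
  have htop := sylow_sup_eq_top (C.subgroupOf (L ⊓ (Q₁ ⊔ C))) hK P
  refine ⟨(P : Subgroup ↥(L ⊓ (Q₁ ⊔ C))).map (L ⊓ (Q₁ ⊔ C)).subtype, ?_, P.isPGroup'.map _, ?_⟩
  · rintro _ ⟨t, _, rfl⟩
    exact (mem_inf.mp t.2).1
  · intro x hx
    have hx2 : x ∈ ((L ⊔ C : Subgroup H) : Set H) := hQ₁ hx
    rw [coe_mul_of_left_le_normalizer_right L C hLC] at hx2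
    obtain ⟨l, hl, c, hc, hlc⟩ := hx2
    have hlc' : l * c = x := hlc
    have hl' : l ∈ L ⊓ (Q₁ ⊔ C) := by
      refine mem_inf.mpr ⟨hl, ?_⟩
      have : l = x * c⁻¹ := by rw [← hlc']; group
      rw [this]
      exact mul_mem (le_sup_left (b := C) hx) (le_sup_right (a := Q₁) (inv_mem hc))
    have hmem : (⟨l, hl'⟩ : ↥(L ⊓ (Q₁ ⊔ C))) ∈
        (((P : Subgroup ↥(L ⊓ (Q₁ ⊔ C))) ⊔ C.subgroupOf (L ⊓ (Q₁ ⊔ C)) :
          Subgroup ↥(L ⊓ (Q₁ ⊔ C))) : Set ↥(L ⊓ (Q₁ ⊔ C))) := by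
      rw [htop]
      exact Set.mem_univ _
    rw [mul_normal] at hmem
    obtain ⟨t, ht, k, hk, htk⟩ := hmem
    have hk' : (k : H) ∈ C := hk
    have e : l = (t : H) * (k : H) := by
      have := congrArg Subtype.val htk
      simpa using this.symm
    rw [← hlc', e, mul_assoc]
    have h1 : (t : H) ∈ (P : Subgroup ↥(L ⊓ (Q₁ ⊔ C))).map (L ⊓ (Q₁ ⊔ C)).subtype ⊔ C :=
      (le_sup_left : _ ≤ (P : Subgroup ↥(L ⊓ (Q₁ ⊔ C))).map (L ⊓ (Q₁ ⊔ C)).subtype ⊔ C)
        ⟨t, ht, rfl⟩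
    have h2 : (k : H) * c ∈ (P : Subgroup ↥(L ⊓ (Q₁ ⊔ C))).map (L ⊓ (Q₁ ⊔ C)).subtype ⊔ C :=
      (le_sup_right : C ≤ (P : Subgroup ↥(L ⊓ (Q₁ ⊔ C))).map (L ⊓ (Q₁ ⊔ C)).subtype ⊔ C)
        (mul_mem hk' hc)
    exact mul_mem h1 h2

/-- Conjugates of the large `p`-subgroup `Q ≤ L` inside `L C_H(Y)` lie in `L`. -/
theorem cj_le_of_le_sup [Finite H] {p : ℕ} [Fact p.Prime] {Q : Subgroup H}
    (hQp : IsPGroup p Q) (hQ1 : Q ≠ ⊥) (hL : Cfsg.IsLarge Q) {L : Subgroup H} (hQL : Q ≤ L)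
    {Y : Subgroup H} (hYp : IsPGroup p Y) (hY1 : Y ≠ ⊥) (hLY : L ≤ normalizer (Y : Set H))
    (g : H) (hg : Q.map (MulAut.conj g).toMonoidHom ≤ L ⊔ centralizer (Y : Set H)) :
    Q.map (MulAut.conj g).toMonoidHom ≤ L := by
  have hLC : L ≤ normalizer ((centralizer (Y : Set H) : Subgroup H) : Set H) :=
    fun l hl => mem_normalizer_centralizer (hLY hl)
  obtain ⟨T, hTL, hTp, hQT⟩ := exists_le_sup hLC (isPGroup_cj g hQp) hg
  obtain ⟨R, hTR, hR⟩ := exists_isSylIn hTL hTp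
  obtain ⟨x, hx, hxR⟩ := hR.exists_cj_le hQL hQp
  obtain ⟨u, huY, hup, huR⟩ := exists_fixed hR.2.1 hYp hY1 (hR.1.trans hLY)
  have hu1 : u ≠ 1 := by
    rintro rfl
    rw [orderOf_one] at hup
    exact (Fact.out : p.Prime).ne_one hup.symm
  have hA1 : zpowers u ≠ ⊥ := by
    rw [Ne, zpowers_eq_bot]
    exact hu1
  have hA2 : zpowers u ≤ centralizer ((Q.map (MulAut.conj x).toMonoidHom : Subgroup H) : Set H) := by
    rw [zpowers_le, mem_centralizer_iff]
    intro q hq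
    exact huR q (hxR hq)
  have hcu : R ⊔ centralizer (Y : Set H) ≤ centralizer ({u} : Set H) := by
    apply sup_le
    · intro r hr
      rw [mem_centralizer_iff]
      intro y hy
      rw [Set.mem_singleton_iff] at hy
      subst hy
      exact (huR r hr).symm
    · exact centralizer_le (by
        intro y hy
        rw [Set.mem_singleton_iff] at hy
        subst hy
        exact huY)
  have hA3 : zpowers u ≤ centralizer ((Q.map (MulAut.conj g).toMonoidHom : Subgroup H) : Set H) := by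
    rw [zpowers_le, mem_centralizer_iff]
    intro q hq
    have h1 : q ∈ centralizer ({u} : Set H) :=
      hcu ((sup_le_sup_right hTR _) (hQT hq))
    exact (mem_centralizer_iff.mp h1 u (Set.mem_singleton u)).symm
  have e : (Q.map (MulAut.conj x).toMonoidHom).map (MulAut.conj (g * x⁻¹)).toMonoidHom =
      Q.map (MulAut.conj g).toMonoidHom := by
    rw [cj_cj, inv_mul_cancel_right]
  have hA3' : zpowers u ≤ centralizer
      (((Q.map (MulAut.conj x).toMonoidHom).map (MulAut.conj (g * x⁻¹)).toMonoidHom :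
        Subgroup H) : Set H) := by
    rw [e]
    exact hA3
  have hne : Q.map (MulAut.conj x).toMonoidHom ≠ ⊥ := by
    rw [Ne, Subgroup.map_eq_bot_iff_of_injective _ (cj_injective x)]
    exact hQ1
  have key := cj_eq_of_common_centralizer (isPGroup_cj x hQp) hne (isLarge_cj hL x) (g * x⁻¹)
    (zpowers u) hA1 hA2 hA3'
  rw [e] at key
  rw [key]
  exact hxR.trans hR.1

end Cfsg.Agent.Lib.Helper48.Large2
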