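import Mathlib
import Cfsg.Agent.Lib.Helper25.BSWSpec

/-!
S3282 piece `NRA` (helper25's split of Brauer--Suzuki--Wall): the non-real elements in the
case `q = 2k-1`.
-/

set_option autoImplicit false

namespace Cfsg.Agent.Lib.Helper48.BSWNRA

open Cfsg Cfsg.Agent.Lib.Helper25.BSWSpec

universe u

variable {G : Type u} [Group G]

theorem orderOf_conj' (g w : G) : orderOf (g * w * g⁻¹) = orderOf w := by
  simpa using orderOf_injective (MulAut.conj g).toMonoidHom (MulAut.conj g).injective w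

theorem notConjK_conj {K : Subgroup G} {z : G} (hz : NotConjK K z) (h : G) :
    NotConjK K (h * z * h⁻¹) := by
  intro g hg
  apply hz (g * h)
  have : g * h * z * (g * h)⁻¹ = g * (h * z * h⁻¹) * g⁻¹ := by group
  rw [this]; exact hg

theorem notConjK_inv {K : Subgroup G} {z : G} (hz : NotConjK K z) : NotConjK K z⁻¹ := by
  intro g hg
  apply hz g
  have : g * z * g⁻¹ = (g * z⁻¹ * g⁻¹)⁻¹ := by group
  rw [this]; exact K.inv_mem hg

theorem notConjK_ne_one {K : Subgroup G} {z : G} (hz : NotConjK K z) : z ≠ 1 := by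
  rintro rfl
  exact hz 1 (by simp)

theorem notConjK_not_invol {t : G} {K : Subgroup G} {s : G} {k : ℕ} (hB : Basic t K s k)
    {z : G} (hz : NotConjK K z) : orderOf z ≠ 2 := by
  intro h2
  obtain ⟨c, hc⟩ := isConj_iff.mp (hB.hconj z t h2 hB.ht)
  exact hz c (hc ▸ hB.htK)

theorem not_commute_t {t : G} {K : Subgroup G} {s : G} {k : ℕ} (hB : Basic t K s k)
    {z : G} (hz : NotConjK K z) : z * t ≠ t * z := by
  intro hc
  rcases (hB.cent_t z).mp hc with h | ⟨x, hx, rfl⟩
  · exact hz 1 (by simpa using h)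
  · exact notConjK_not_invol hB hz (hB.invol_coset x hx)

theorem no_invol_commute {t : G} {K : Subgroup G} {s : G} {k : ℕ} (hB : Basic t K s k)
    {z : G} (hz : NotConjK K z) {w : G} (hw : orderOf w = 2) : w * z ≠ z * w := by
  intro hc
  obtain ⟨g, hg⟩ := isConj_iff.mp (hB.hconj t w hB.ht hw)
  have h1 := notConjK_conj hz g⁻¹
  apply not_commute_t hB h1
  subst hg
  have e1 : g⁻¹ * z * g⁻¹⁻¹ * t = g⁻¹ * (z * (g * t * g⁻¹)) * g := by group
  rw [e1, ← hc]; group

theorem notConjK_of_commute {t : G} {K : Subgroup G} {s : G} {k : ℕ} (hB : Basic t K s k)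
    {z : G} (hz : NotConjK K z) {x : G} (hx : x * z = z * x) (hx1 : x ≠ 1) :
    NotConjK K x := by
  intro g hg
  have h1 := notConjK_conj hz g
  apply not_commute_t hB h1
  apply hB.ti (g * x * g⁻¹) hg (by
    intro h; apply hx1
    have e : x = g⁻¹ * (g * x * g⁻¹) * g := by group
    rw [e, h]; group)
  have e1 : (g * z * g⁻¹) * (g * x * g⁻¹) * (g * z * g⁻¹)⁻¹ = g * (z * x) * z⁻¹ * g⁻¹ := by
    group
  rw [e1, ← hx]
  have e2 : g * (x * z) * z⁻¹ * g⁻¹ = g * x * g⁻¹ := by group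
  rw [e2]; exact hg

theorem aInv_eq_zero_iff [Finite G] (z : G) :
    aInv z = 0 ↔ ∀ w : G, orderOf w = 2 → w * z * w⁻¹ ≠ z⁻¹ := by
  unfold aInv
  rw [Nat.card_eq_zero]
  constructor
  · rintro (h | h)
    · intro w hw hwz; exact h.false ⟨w, hw, hwz⟩
    · exact (not_finite {w : G // orderOf w = 2 ∧ w * z * w⁻¹ = z⁻¹}).elim
  · intro h; left; exact ⟨fun ⟨w, hw, hwz⟩ => h w hw hwz⟩

theorem aInv_conj_zero [Finite G] {z : G} (h : aInv z = 0) (g : G) : aInv (g * z * g⁻¹) = 0 := by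
  rw [aInv_eq_zero_iff] at h ⊢
  intro w hw hwz
  apply h (g⁻¹ * w * g)
  · have := orderOf_conj' g⁻¹ w
    rw [inv_inv] at this; rw [this, hw]
  · have e : g⁻¹ * w * g * z * (g⁻¹ * w * g)⁻¹ = g⁻¹ * (w * (g * z * g⁻¹) * w⁻¹) * g := by group
    rw [e, hwz]; group

theorem aInv_inv_zero [Finite G] {z : G} (h : aInv z = 0) : aInv z⁻¹ = 0 := by
  rw [aInv_eq_zero_iff] at h ⊢
  intro w hw hwz
  apply h w hw
  have e : w * z * w⁻¹ = (w * z⁻¹ * w⁻¹)⁻¹ := by group
  rw [e, hwz, inv_inv]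

theorem R0_of_commute (RS1 : RealStruct1.{u}) [Finite G] {t : G} {K : Subgroup G} {s : G}
    {k : ℕ} (hB : Basic t K s k) {z : G} (hz : NotConjK K z) (hz0 : aInv z = 0) {x : G}
    (hx : x * z = z * x) (hx1 : x ≠ 1) : NotConjK K x ∧ aInv x = 0 := by
  have hxN := notConjK_of_commute hB hz hx hx1
  refine ⟨hxN, ?_⟩
  by_contra hne
  rw [aInv_eq_zero_iff] at hne
  push Not at hne
  obtain ⟨w, hw, hwx⟩ := hne
  have h1 := (RS1 G t K s k hB x w hxN hw hwx).1 z (by
    rw [Subgroup.mem_centralizer_iff]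
    intro y hy
    rw [Set.mem_singleton_iff] at hy
    subst hy; exact hx)
  exact (aInv_eq_zero_iff z).mp hz0 w hw h1

theorem conj_into [Finite G] (A : Subgroup G) (r : ℕ) [Fact r.Prime] (hA : ¬ r ∣ A.index)
    (x : G) (hx : ∃ i : ℕ, orderOf x = r ^ i) : ∃ g : G, g * x * g⁻¹ ∈ A := by
  obtain ⟨i, hi⟩ := hx
  have hxP : IsPGroup r (Subgroup.zpowers x) :=
    IsPGroup.of_card (n := i) (by rw [Nat.card_zpowers, hi])
  obtain ⟨P, hP⟩ := hxP.exists_le_sylow
  obtain ⟨S⟩ : Nonempty (Sylow r A) := inferInstance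
  have hS' : IsPGroup r (S.1.map A.subtype) := S.2.map A.subtype
  have hidx : ¬ r ∣ (S.1.map A.subtype).index := by
    rw [Subgroup.index_map_subtype]
    intro h
    rcases (Nat.Prime.dvd_mul Fact.out).mp h with h | h
    · exact S.not_dvd_index h
    · exact hA h
  obtain ⟨g, hg⟩ := MulAction.exists_smul_eq G P (hS'.toSylow hidx)
  refine ⟨g, ?_⟩
  have h1 : x ∈ (P : Subgroup G) := hP (Subgroup.mem_zpowers x)
  have h2 : g * x * g⁻¹ ∈ ((g • P : Sylow r G) : Subgroup G) := by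
    rw [Sylow.coe_subgroup_smul]
    exact Subgroup.smul_mem_pointwise_smul x (MulAut.conj g) _ h1
  rw [hg] at h2
  have h3 : g * x * g⁻¹ ∈ S.1.map A.subtype := (IsPGroup.mem_toSylow hS' hidx).mp h2
  exact Subgroup.map_subtype_le _ h3

theorem prime_not_dvd_succ {r a b : ℕ} (hr : r.Prime) (ha : r ∣ a) (hb : r ∣ b)
    (hab : a = b + 1) : False := by
  have h1 : r ∣ a - b := Nat.dvd_sub ha hb
  have h2 : a - b = 1 := by omega
  rw [h2] at h1
  exact hr.one_lt.ne' (Nat.dvd_one.mp h1)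

theorem card_cent_dvd (RS1 : RealStruct1.{u}) [Finite G] {t : G} {K : Subgroup G} {s : G}
    {k : ℕ} (hB : Basic t K s k) (hk : 4 ≤ k)
    (hG : Nat.card G = 2 * k * (k - 1) * (2 * k - 1))
    {z1 : G} (hz1 : NotConjK K z1) (hz1a : aInv z1 = k - 1)
    {z : G} (hz : NotConjK K z) (hz0 : aInv z = 0) :
    Nat.card (Subgroup.centralizer ({z} : Set G)) ∣ 2 * k - 1 := by
  have hdvd : Nat.card (Subgroup.centralizer ({z} : Set G)) ∣ 2 * k * (k - 1) * (2 * k - 1) :=
    hG ▸ Subgroup.card_subgroup_dvd_card _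
  have hcop : Nat.Coprime (Nat.card (Subgroup.centralizer ({z} : Set G))) (2 * k * (k - 1)) := by
    apply Nat.coprime_of_dvd
    intro r hr hrC hrk
    have : Fact r.Prime := ⟨hr⟩
    obtain ⟨⟨x, hxC⟩, hxo⟩ := exists_prime_orderOf_dvd_card' r hrC
    have hxo' : orderOf x = r := by rw [← hxo]; exact (Subgroup.orderOf_mk x hxC).symm
    have hxz : x * z = z * x := by
      rw [Subgroup.mem_centralizer_iff] at hxC
      exact (hxC z (Set.mem_singleton z)).symm
    have hx1 : x ≠ 1 := by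
      rintro rfl
      rw [orderOf_one] at hxo'
      exact hr.one_lt.ne hxo'
    obtain ⟨hxN, hxa⟩ := R0_of_commute RS1 hB hz hz0 hxz hx1
    have hr2 : r ≠ 2 := by
      rintro rfl
      exact no_invol_commute hB hz hxo' hxz
    have hnot2 : ¬ r ∣ 2 := fun h => hr2 ((Nat.prime_dvd_prime_iff_eq hr Nat.prime_two).mp h)
    rcases (Nat.Prime.dvd_mul hr).mp hrk with h | h
    · rcases (Nat.Prime.dvd_mul hr).mp h with h | h
      · exact hnot2 h
      · -- `r ∣ k`: conjugate `x` into `K`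
        have hKidx : ¬ r ∣ K.index := by
          intro hi
          have hKi : K.index = 2 * (k - 1) * (2 * k - 1) := by
            have h3 := K.card_mul_index
            rw [hB.card_K, hG] at h3
            apply Nat.eq_of_mul_eq_mul_left (by omega : 0 < k)
            rw [h3]; ring
          rw [hKi] at hi
          rcases (Nat.Prime.dvd_mul hr).mp hi with h' | h'
          · rcases (Nat.Prime.dvd_mul hr).mp h' with h' | h'
            · exact hnot2 h'
            · exact prime_not_dvd_succ hr h h' (by omega)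
          · exact prime_not_dvd_succ hr (Dvd.dvd.mul_left h 2) h' (by omega)
        obtain ⟨g, hg⟩ := conj_into K r hKidx x ⟨1, by rw [hxo', pow_one]⟩
        exact hxN g hg
    · -- `r ∣ k - 1`: conjugate `x` into `C(z1)`
      have hne : aInv z1 ≠ 0 := by rw [hz1a]; omega
      rw [Ne, aInv_eq_zero_iff] at hne
      push Not at hne
      obtain ⟨w, hw, hwz⟩ := hne
      have hRS := RS1 G t K s k hB z1 w hz1 hw hwz
      have hcard : Nat.card (Subgroup.centralizer ({z1} : Set G)) = k - 1 := by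
        rw [← hRS.2.2, hz1a]
      have hAidx : ¬ r ∣ (Subgroup.centralizer ({z1} : Set G)).index := by
        intro hi
        have hAi : (Subgroup.centralizer ({z1} : Set G)).index = 2 * k * (2 * k - 1) := by
          have h3 := (Subgroup.centralizer ({z1} : Set G)).card_mul_index
          rw [hcard, hG] at h3
          apply Nat.eq_of_mul_eq_mul_left (by omega : 0 < k - 1)
          rw [h3]; ring
        rw [hAi] at hi
        rcases (Nat.Prime.dvd_mul hr).mp hi with h' | h'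
        · rcases (Nat.Prime.dvd_mul hr).mp h' with h' | h'
          · exact hnot2 h'
          · exact prime_not_dvd_succ hr h' h (by omega)
        · exact prime_not_dvd_succ hr h' (Dvd.dvd.mul_left h 2) (by omega)
      obtain ⟨g, hg⟩ := conj_into _ r hAidx x ⟨1, by rw [hxo', pow_one]⟩
      have hinv := hRS.1 _ hg
      have hxa' := aInv_conj_zero hxa g
      rw [aInv_eq_zero_iff] at hxa'
      exact hxa' w hw hinv
  exact (Nat.Coprime.dvd_mul_left hcop).mp hdvd

theorem conj_pow_inv {g z : G} (h : g * z * g⁻¹ = z⁻¹) (m : ℕ) :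
    g ^ m * z * (g ^ m)⁻¹ = if Even m then z else z⁻¹ := by
  induction m with
  | zero => simp
  | succ m ih =>
    have e : g ^ (m + 1) * z * (g ^ (m + 1))⁻¹ = g * (g ^ m * z * (g ^ m)⁻¹) * g⁻¹ := by
      rw [pow_succ']; group
    rw [e, ih]
    by_cases hm : Even m
    · have h' : ¬ Even (m + 1) := by rw [Nat.even_add_one]; exact not_not.mpr hm
      rw [if_pos hm, if_neg h', h]
    · have h' : Even (m + 1) := by rw [Nat.even_add_one]; exact hm
      rw [if_neg hm, if_pos h']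
      have e2 : g * z⁻¹ * g⁻¹ = (g * z * g⁻¹)⁻¹ := by group
      rw [e2, h, inv_inv]

theorem not_conj_inv [Finite G] {t : G} {K : Subgroup G} {s : G} {k : ℕ} (hB : Basic t K s k)
    {z : G} (hz : NotConjK K z) (hz0 : aInv z = 0) (g : G) : g * z * g⁻¹ ≠ z⁻¹ := by
  intro h
  have hno := (aInv_eq_zero_iff z).mp hz0
  have hz1 := notConjK_ne_one hz
  have hz2 := notConjK_not_invol hB hz
  have hzz : z ≠ z⁻¹ := by
    intro h'
    have e : z ^ 2 = 1 := by
      rw [pow_two]
      calc z * z = z * z⁻¹ := by rw [← h']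
        _ = 1 := mul_inv_cancel z
    have : Fact (Nat.Prime 2) := ⟨Nat.prime_two⟩
    exact hz2 (orderOf_eq_prime e hz1)
  have hn := orderOf_pos g
  rcases Nat.even_or_odd (orderOf g) with he | ho
  · obtain ⟨m, hm⟩ := he
    have hw : orderOf (g ^ m) = 2 := by
      rw [orderOf_pow_of_dvd (by omega) ⟨2, by omega⟩, hm]
      have : m + m = 2 * m := by ring
      rw [this]; exact Nat.mul_div_cancel _ (by omega)
    have hc := conj_pow_inv h m
    by_cases hme : Even m
    · rw [if_pos hme] at hc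
      apply no_invol_commute hB hz hw
      calc g ^ m * z = (g ^ m * z * (g ^ m)⁻¹) * g ^ m := by group
        _ = z * g ^ m := by rw [hc]
    · rw [if_neg hme] at hc
      exact hno _ hw hc
  · have hc := conj_pow_inv h (orderOf g)
    rw [pow_orderOf_eq_one, if_neg (Nat.not_even_iff_odd.mpr ho)] at hc
    simp at hc
    exact hzz hc

theorem card_cl_mul [Finite G] (z : G) :
    (Set.range (fun g : G => g * z * g⁻¹)).ncard *
      Nat.card (Subgroup.centralizer ({z} : Set G)) = Nat.card G := by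
  classical
  have h1 : Set.range (fun g : G => g * z * g⁻¹) = MulAction.orbit (ConjAct G) z := by
    ext y; constructor
    · rintro ⟨g, rfl⟩; exact ⟨ConjAct.toConjAct g, by simp [ConjAct.smul_def]⟩
    · rintro ⟨m, rfl⟩; exact ⟨ConjAct.ofConjAct m, by simp [ConjAct.smul_def]⟩
  rw [h1, Subgroup.nat_card_centralizer_nat_card_stabilizer]
  have : Fintype G := Fintype.ofFinite G
  have : Fintype (ConjAct G) := Fintype.ofFinite _
  have : Fintype (MulAction.orbit (ConjAct G) z) := Fintype.ofFinite _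
  have : Fintype (MulAction.stabilizer (ConjAct G) z) := Fintype.ofFinite _
  have h2 := MulAction.card_orbit_mul_card_stabilizer_eq_card_group (ConjAct G) z
  rw [← Nat.card_coe_set_eq, Nat.card_eq_fintype_card, Nat.card_eq_fintype_card, h2,
    ← Nat.card_eq_fintype_card]
  exact Nat.card_congr ConjAct.ofConjAct.toEquiv

theorem arith_count {j N N' c c' : ℕ} (hj : 3 ≤ j)
    (h1 : N * c = 2 * (j + 1) * j * (2 * j + 1)) (h1' : N' * c' = 2 * (j + 1) * j * (2 * j + 1))
    (h2 : c ∣ 2 * j + 1) (h2' : c' ∣ 2 * j + 1) (h3 : N + N' ≤ (2 * j + 1) ^ 2 - 1) :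
    c = 2 * j + 1 ∧ N + N' = (2 * j + 1) ^ 2 - 1 := by
  have hc : c ≤ 2 * j + 1 := Nat.le_of_dvd (by omega) h2
  have hc' : c' ≤ 2 * j + 1 := Nat.le_of_dvd (by omega) h2'
  have hN : 2 * (j + 1) * j ≤ N := by
    by_contra hlt
    push Not at hlt
    have a1 : N * c ≤ N * (2 * j + 1) := Nat.mul_le_mul_left N hc
    have a2 : N * (2 * j + 1) < 2 * (j + 1) * j * (2 * j + 1) :=
      Nat.mul_lt_mul_of_pos_right hlt (by omega)
    omega
  have hN' : 2 * (j + 1) * j ≤ N' := by
    by_contra hlt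
    push Not at hlt
    have a1 : N' * c' ≤ N' * (2 * j + 1) := Nat.mul_le_mul_left N' hc'
    have a2 : N' * (2 * j + 1) < 2 * (j + 1) * j * (2 * j + 1) :=
      Nat.mul_lt_mul_of_pos_right hlt (by omega)
    omega
  have e : (2 * j + 1) ^ 2 - 1 = 2 * (j + 1) * j + 2 * (j + 1) * j := by
    have : (2 * j + 1) ^ 2 = 2 * (j + 1) * j + 2 * (j + 1) * j + 1 := by ring
    omega
  rw [e] at h3 ⊢
  have hNe : N = 2 * (j + 1) * j := by omega
  refine ⟨?_, by omega⟩
  have hpos : 0 < N := by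
    rw [hNe]; positivity
  apply Nat.eq_of_mul_eq_mul_left hpos
  rw [h1, hNe]

theorem main : NRA.{u} := by
  intro RS1 _ G _ _ t K s k hB hk hG hA hR0 ⟨z1, hz1, hz1a⟩
  obtain ⟨j, rfl⟩ : ∃ j, k = j + 1 := ⟨k - 1, by omega⟩
  have hj : 3 ≤ j := by omega
  have e1 : j + 1 - 1 = j := by omega
  have e2 : 2 * (j + 1) - 1 = 2 * j + 1 := by omega
  have hdvd : ∀ z : G, NotConjK K z → aInv z = 0 →
      Nat.card (Subgroup.centralizer ({z} : Set G)) ∣ 2 * j + 1 := fun z hz hz0 => by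
    have := card_cent_dvd RS1 hB hk hG hz1 hz1a hz hz0
    rwa [e2] at this
  rw [e1, e2] at hG
  rw [e2] at hR0
  simp only [e2]
  -- counting
  have hcount : ∀ z : G, NotConjK K z → aInv z = 0 →
      Nat.card (Subgroup.centralizer ({z} : Set G)) = 2 * j + 1 ∧
      ∀ y : G, NotConjK K y → aInv y = 0 →
        (∃ g : G, g * z * g⁻¹ = y) ∨ (∃ g : G, g * z⁻¹ * g⁻¹ = y) := by
    intro z hz hz0
    have hzi := notConjK_inv hz
    have hzi0 := aInv_inv_zero hz0
    have hS : ({y : G | NotConjK K y ∧ aInv y = 0} : Set G).ncard = (2 * j + 1) ^ 2 - 1 :=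
      (Nat.card_coe_set_eq {y : G | NotConjK K y ∧ aInv y = 0}).symm.trans hR0
    have hsub1 : Set.range (fun g : G => g * z * g⁻¹) ⊆ {y : G | NotConjK K y ∧ aInv y = 0} := by
      rintro _ ⟨g, rfl⟩
      exact ⟨notConjK_conj hz g, aInv_conj_zero hz0 g⟩
    have hsub2 : Set.range (fun g : G => g * z⁻¹ * g⁻¹) ⊆
        {y : G | NotConjK K y ∧ aInv y = 0} := by
      rintro _ ⟨g, rfl⟩
      exact ⟨notConjK_conj hzi g, aInv_conj_zero hzi0 g⟩
    have hdisj : Disjoint (Set.range (fun g : G => g * z * g⁻¹))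
        (Set.range (fun g : G => g * z⁻¹ * g⁻¹)) := by
      rw [Set.disjoint_left]
      rintro _ ⟨g, rfl⟩ ⟨h, hh⟩
      apply not_conj_inv hB hz hz0 (h⁻¹ * g)
      have e : h⁻¹ * g * z * (h⁻¹ * g)⁻¹ = h⁻¹ * (g * z * g⁻¹) * h := by group
      have hh' : h * z⁻¹ * h⁻¹ = g * z * g⁻¹ := hh
      rw [e, ← hh']; group
    have hun := Set.ncard_union_eq hdisj (Set.toFinite _) (Set.toFinite _)
    have hle : (Set.range (fun g : G => g * z * g⁻¹) ∪
        Set.range (fun g : G => g * z⁻¹ * g⁻¹)).ncard ≤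
        ({y : G | NotConjK K y ∧ aInv y = 0} : Set G).ncard :=
      Set.ncard_le_ncard (Set.union_subset hsub1 hsub2) (Set.toFinite _)
    rw [hun, hS] at hle
    have hc1 := card_cl_mul z
    have hc2 := card_cl_mul z⁻¹
    rw [hG] at hc1 hc2
    obtain ⟨hc, hsum⟩ := arith_count hj hc1 hc2 (hdvd z hz hz0) (hdvd z⁻¹ hzi hzi0) hle
    refine ⟨hc, ?_⟩
    have heq : Set.range (fun g : G => g * z * g⁻¹) ∪ Set.range (fun g : G => g * z⁻¹ * g⁻¹) =
        {y : G | NotConjK K y ∧ aInv y = 0} :=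
      Set.eq_of_subset_of_ncard_le (Set.union_subset hsub1 hsub2)
        (by rw [hun, hS, hsum]) (Set.toFinite _)
    intro y hy hy0
    have hy' : y ∈ ({y : G | NotConjK K y ∧ aInv y = 0} : Set G) := ⟨hy, hy0⟩
    rw [← heq] at hy'
    rcases hy' with ⟨g, hg⟩ | ⟨g, hg⟩
    · exact Or.inl ⟨g, hg⟩
    · exact Or.inr ⟨g, hg⟩
  -- an element of `R0`
  obtain ⟨z0, hz0N, hz0a⟩ : ∃ z0 : G, NotConjK K z0 ∧ aInv z0 = 0 := by
    have hpos : 0 < Nat.card {z : G // NotConjK K z ∧ aInv z = 0} := by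
      rw [hR0]
      have : 1 < (2 * j + 1) ^ 2 := by nlinarith
      omega
    obtain ⟨⟨z, hz⟩⟩ := (Nat.card_pos_iff.mp hpos).1
    exact ⟨z, hz⟩
  have hord : ∀ y : G, NotConjK K y → aInv y = 0 → orderOf y = orderOf z0 := by
    intro y hy hya
    rcases (hcount z0 hz0N hz0a).2 y hy hya with ⟨g, rfl⟩ | ⟨g, rfl⟩
    · exact orderOf_conj' g z0
    · rw [orderOf_conj', orderOf_inv]
  have hn1 : orderOf z0 ≠ 1 := by
    rw [Ne, orderOf_eq_one_iff]; exact notConjK_ne_one hz0N
  have hn0 : orderOf z0 ≠ 0 := (orderOf_pos z0).ne'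
  have hpn : orderOf z0 = (orderOf z0).minFac := by
    have hmp : (orderOf z0).minFac.Prime := Nat.minFac_prime hn1
    have hmd : (orderOf z0).minFac ∣ orderOf z0 := Nat.minFac_dvd _
    have hy : orderOf (z0 ^ (orderOf z0 / (orderOf z0).minFac)) = (orderOf z0).minFac := by
      rw [orderOf_pow_of_dvd (Nat.div_pos (Nat.le_of_dvd (orderOf_pos z0) hmd) hmp.pos).ne'
        (Nat.div_dvd_of_dvd hmd)]
      exact Nat.div_div_self hmd hn0
    have hy1 : z0 ^ (orderOf z0 / (orderOf z0).minFac) ≠ 1 := by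
      intro h
      rw [h, orderOf_one] at hy
      exact hmp.one_lt.ne hy
    obtain ⟨hyN, hya⟩ := R0_of_commute RS1 hB hz0N hz0a (Commute.pow_self z0 _).eq hy1
    exact (hord _ hyN hya).symm.trans hy
  have hpP : (orderOf z0).Prime := by rw [hpn]; exact Nat.minFac_prime hn1
  have : Fact (orderOf z0).Prime := ⟨hpP⟩
  have hcz0 := (hcount z0 hz0N hz0a).1
  have hPG : IsPGroup (orderOf z0) (Subgroup.centralizer ({z0} : Set G)) := by
    rintro ⟨x, hx⟩
    refine ⟨1, ?_⟩
    apply Subtype.ext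
    show x ^ (orderOf z0 ^ 1) = 1
    rw [pow_one]
    by_cases hx1 : x = 1
    · rw [hx1, one_pow]
    · have hxz : x * z0 = z0 * x := by
        rw [Subgroup.mem_centralizer_iff] at hx
        exact (hx z0 (Set.mem_singleton z0)).symm
      obtain ⟨hxN, hxa⟩ := R0_of_commute RS1 hB hz0N hz0a hxz hx1
      rw [← hord x hxN hxa]; exact pow_orderOf_eq_one x
  obtain ⟨b, hb⟩ := IsPGroup.iff_card.mp hPG
  rw [hcz0] at hb
  have hb0 : b ≠ 0 := by
    rintro rfl
    rw [pow_zero] at hb; omega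
  have hpq : orderOf z0 ∣ 2 * j + 1 := hb ▸ dvd_pow_self _ hb0
  have hidx : ¬ orderOf z0 ∣ (Subgroup.centralizer ({z0} : Set G)).index := by
    intro hi
    have hAi : (Subgroup.centralizer ({z0} : Set G)).index = 2 * (j + 1) * j := by
      have h3 := (Subgroup.centralizer ({z0} : Set G)).card_mul_index
      rw [hcz0, hG] at h3
      apply Nat.eq_of_mul_eq_mul_left (by omega : 0 < 2 * j + 1)
      rw [h3]; ring
    rw [hAi] at hi
    rcases (Nat.Prime.dvd_mul hpP).mp hi with h' | h'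
    · rcases (Nat.Prime.dvd_mul hpP).mp h' with h' | h'
      · have h2 : orderOf z0 = 2 := (Nat.prime_dvd_prime_iff_eq hpP Nat.prime_two).mp h'
        exact notConjK_not_invol hB hz0N h2
      · exact prime_not_dvd_succ hpP (Dvd.dvd.mul_left h' 2) hpq (by omega)
    · exact prime_not_dvd_succ hpP hpq (Dvd.dvd.mul_left h' 2) (by omega)
  have hin : ∀ x : G, x ≠ 1 → (∃ i : ℕ, orderOf x = orderOf z0 ^ i) →
      NotConjK K x ∧ aInv x = 0 := by
    intro x hx1 hxi
    obtain ⟨g, hg⟩ := conj_into _ (orderOf z0) hidx x hxi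
    have hgz : (g * x * g⁻¹) * z0 = z0 * (g * x * g⁻¹) := by
      rw [Subgroup.mem_centralizer_iff] at hg
      exact (hg z0 (Set.mem_singleton z0)).symm
    have hg1 : g * x * g⁻¹ ≠ 1 := by
      intro h; apply hx1
      have e : x = g⁻¹ * (g * x * g⁻¹) * g := by group
      rw [e, h]; group
    obtain ⟨hyN, hya⟩ := R0_of_commute RS1 hB hz0N hz0a hgz hg1
    have e : x = g⁻¹ * (g * x * g⁻¹) * g⁻¹⁻¹ := by group
    rw [e]
    exact ⟨notConjK_conj hyN g⁻¹, aInv_conj_zero hya g⁻¹⟩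
  refine ⟨orderOf z0, hpP, ⟨b, hb⟩, ?_, ?_, ?_⟩
  · intro z
    constructor
    · rintro ⟨hz, hza⟩; exact hord z hz hza
    · intro hz
      have hz1' : z ≠ 1 := by
        rintro rfl
        rw [orderOf_one] at hz
        exact hpP.one_lt.ne hz
      exact hin z hz1' ⟨1, by rw [hz, pow_one]⟩
  · intro x hx1 hxi
    obtain ⟨hxN, hxa⟩ := hin x hx1 hxi
    exact hord x hxN hxa
  · intro z hz
    have hz1' : z ≠ 1 := by
      rintro rfl
      rw [orderOf_one] at hz
      exact hpP.one_lt.ne hz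
    obtain ⟨hzN, hza⟩ := hin z hz1' ⟨1, by rw [hz, pow_one]⟩
    exact (hcount z hzN hza).1

end Cfsg.Agent.Lib.Helper48.BSWNRA
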