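import Mathlib
import Cfsg.Agent.Lib.Helper10.C2MStmt
import Cfsg.Agent.Lib.Helper44.NegPairs

/-!
# S5990C / QUADVANM (sub-call by helper10): minus-form port of `Helper48.C2QUADVAN`

Char 2, `x` an isometry of the minus form with `x * x = 1`: `g w = β(w, x w)` is additive and
`g (c w) = c² g w`; if it vanishes on the singular vectors of a nondegenerate `A` containing a
nonzero singular vector, it vanishes on `A`.
-/

set_option autoImplicit false

universe u

open scoped Matrix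

namespace Cfsg.Agent.Lib.Helper48.C2MQUADVANM

open Cfsg.Agent.Lib.Helper45.OMiStmt (M Aniso NDegM StabM)
open Cfsg.Agent.Lib.Helper44.NegPairs (minusQ)
open Cfsg.Agent.Lib.Helper10.C2MStmt

theorem main : QuadVanM.{u} := by
  intro F _ _ a₀ b₀ _ _ d x hx hxx A hA e heA he0 hQe hg u hu
  classical
  have hQ : ∀ v : M d → F, Cfsg.quadFormMinus (d - 1) F a₀ b₀ ((x : Matrix (M d) (M d) F) *ᵥ v)
      = Cfsg.quadFormMinus (d - 1) F a₀ b₀ v := fun v => hx v v
  have hpl : ∀ a b c : M d → F, QuadraticMap.polar (Cfsg.quadFormMinus (d - 1) F a₀ b₀) (a + b) c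
      = QuadraticMap.polar (Cfsg.quadFormMinus (d - 1) F a₀ b₀) a c
        + QuadraticMap.polar (Cfsg.quadFormMinus (d - 1) F a₀ b₀) b c :=
    fun a b c => QuadraticMap.polar_add_left (minusQ (d - 1) F a₀ b₀) a b c
  have hpr : ∀ a b c : M d → F, QuadraticMap.polar (Cfsg.quadFormMinus (d - 1) F a₀ b₀) a (b + c)
      = QuadraticMap.polar (Cfsg.quadFormMinus (d - 1) F a₀ b₀) a b
        + QuadraticMap.polar (Cfsg.quadFormMinus (d - 1) F a₀ b₀) a c :=
    fun a b c => QuadraticMap.polar_add_right (minusQ (d - 1) F a₀ b₀) a b c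
  have hsl : ∀ (k : F) (a b : M d → F),
      QuadraticMap.polar (Cfsg.quadFormMinus (d - 1) F a₀ b₀) (k • a) b
      = k * QuadraticMap.polar (Cfsg.quadFormMinus (d - 1) F a₀ b₀) a b :=
    fun k a b => QuadraticMap.polar_smul_left (minusQ (d - 1) F a₀ b₀) k a b
  have hsr : ∀ (k : F) (a b : M d → F),
      QuadraticMap.polar (Cfsg.quadFormMinus (d - 1) F a₀ b₀) a (k • b)
      = k * QuadraticMap.polar (Cfsg.quadFormMinus (d - 1) F a₀ b₀) a b :=
    fun k a b => QuadraticMap.polar_smul_right (minusQ (d - 1) F a₀ b₀) k a b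
  have hcomm : ∀ a b : M d → F, QuadraticMap.polar (Cfsg.quadFormMinus (d - 1) F a₀ b₀) a b
      = QuadraticMap.polar (Cfsg.quadFormMinus (d - 1) F a₀ b₀) b a :=
    fun a b => QuadraticMap.polar_comm _ a b
  have hQadd : ∀ a b : M d → F, Cfsg.quadFormMinus (d - 1) F a₀ b₀ (a + b)
      = Cfsg.quadFormMinus (d - 1) F a₀ b₀ a + Cfsg.quadFormMinus (d - 1) F a₀ b₀ b
        + QuadraticMap.polar (Cfsg.quadFormMinus (d - 1) F a₀ b₀) a b := by
    intro a b; unfold QuadraticMap.polar; ring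
  have hQsmul : ∀ (k : F) (a : M d → F), Cfsg.quadFormMinus (d - 1) F a₀ b₀ (k • a)
      = k * k * Cfsg.quadFormMinus (d - 1) F a₀ b₀ a :=
    fun k a => QuadraticMap.map_smul (minusQ (d - 1) F a₀ b₀) k a
  have hXX : ∀ v : M d → F,
      (x : Matrix (M d) (M d) F) *ᵥ ((x : Matrix (M d) (M d) F) *ᵥ v) = v := by
    intro v; rw [Matrix.mulVec_mulVec, hxx, Matrix.one_mulVec]
  have hXiso : ∀ a b : M d → F, QuadraticMap.polar (Cfsg.quadFormMinus (d - 1) F a₀ b₀)
      ((x : Matrix (M d) (M d) F) *ᵥ a) ((x : Matrix (M d) (M d) F) *ᵥ b)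
      = QuadraticMap.polar (Cfsg.quadFormMinus (d - 1) F a₀ b₀) a b := by
    intro a b; unfold QuadraticMap.polar; rw [← Matrix.mulVec_add, hQ, hQ, hQ]
  have h20 : (2 : F) = 0 := CharTwo.two_eq_zero
  have hgadd : ∀ a b : M d → F, QuadraticMap.polar (Cfsg.quadFormMinus (d - 1) F a₀ b₀) (a + b)
      ((x : Matrix (M d) (M d) F) *ᵥ (a + b))
      = QuadraticMap.polar (Cfsg.quadFormMinus (d - 1) F a₀ b₀) a
          ((x : Matrix (M d) (M d) F) *ᵥ a)
        + QuadraticMap.polar (Cfsg.quadFormMinus (d - 1) F a₀ b₀) b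
          ((x : Matrix (M d) (M d) F) *ᵥ b) := by
    intro a b
    rw [Matrix.mulVec_add, hpl, hpr, hpr]
    have h1 : QuadraticMap.polar (Cfsg.quadFormMinus (d - 1) F a₀ b₀) b
          ((x : Matrix (M d) (M d) F) *ᵥ a)
        = QuadraticMap.polar (Cfsg.quadFormMinus (d - 1) F a₀ b₀) a
          ((x : Matrix (M d) (M d) F) *ᵥ b) := by
      rw [← hXiso b ((x : Matrix (M d) (M d) F) *ᵥ a), hXX, hcomm]
    rw [h1]
    linear_combination
      (QuadraticMap.polar (Cfsg.quadFormMinus (d - 1) F a₀ b₀) a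
        ((x : Matrix (M d) (M d) F) *ᵥ b)) * h20
  have hgsmul : ∀ (k : F) (a : M d → F),
      QuadraticMap.polar (Cfsg.quadFormMinus (d - 1) F a₀ b₀) (k • a)
        ((x : Matrix (M d) (M d) F) *ᵥ (k • a))
      = k * k * QuadraticMap.polar (Cfsg.quadFormMinus (d - 1) F a₀ b₀) a
        ((x : Matrix (M d) (M d) F) *ᵥ a) := by
    intro k a; rw [Matrix.mulVec_smul, hsl, hsr]; ring
  -- case 1
  have hc1 : ∀ f ∈ A, QuadraticMap.polar (Cfsg.quadFormMinus (d - 1) F a₀ b₀) e f ≠ 0 →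
      QuadraticMap.polar (Cfsg.quadFormMinus (d - 1) F a₀ b₀) f
        ((x : Matrix (M d) (M d) F) *ᵥ f) = 0 := by
    intro f hf hne
    obtain ⟨c, hc⟩ : ∃ c : F, c = -(Cfsg.quadFormMinus (d - 1) F a₀ b₀ f
        / QuadraticMap.polar (Cfsg.quadFormMinus (d - 1) F a₀ b₀) e f) := ⟨_, rfl⟩
    have hw : Cfsg.quadFormMinus (d - 1) F a₀ b₀ (f + c • e) = 0 := by
      rw [hQadd, hQsmul, hQe, hsr, hcomm f e, hc]
      field_simp
      ring
    have hwA : f + c • e ∈ A := A.add_mem hf (A.smul_mem c heA)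
    have h1 := hg _ hwA hw
    have h2 := hg e heA hQe
    have h4 := hgadd (f + c • e) ((-c) • e)
    have h5 : (f + c • e) + (-c) • e = f := by rw [neg_smul]; abel
    rw [h5] at h4
    rw [h4, h1, hgsmul, h2]; ring
  obtain ⟨-, ⟨f₁, hf₁A, hf₁⟩⟩ := hA e heA he0
  by_cases hcase : QuadraticMap.polar (Cfsg.quadFormMinus (d - 1) F a₀ b₀) e u ≠ 0
  · exact hc1 u hu hcase
  · push Not at hcase
    have h1 := hc1 f₁ hf₁A hf₁
    have h2 := hc1 (u + f₁) (A.add_mem hu hf₁A)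
      (by rw [hpr, hcase, zero_add]; exact hf₁)
    have h3 := hgadd u f₁
    rw [h2, h1, add_zero] at h3
    exact h3.symm

end Cfsg.Agent.Lib.Helper48.C2MQUADVANM
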