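import Mathlib
import Cfsg.Agent.Lib.Helper59.C2Stmt
import Cfsg.Agent.Lib.Helper44.NegPairs

/-!
# S5974C / QUADVAN (sub-call by helper59)

Char 2, `x` an isometry of the plus form with `x * x = 1`: `g w = β(w, x w)` is additive and
`g (c w) = c² g w`; if it vanishes on the singular vectors of a nonzero nondegenerate plus-type
`A`, it vanishes on `A`.
-/

set_option autoImplicit false

universe u

open scoped Matrix

namespace Cfsg.Agent.Lib.Helper48.C2QUADVAN

open Cfsg.Agent.Lib.Helper44.TPStmt (J NDeg Stab TSub Plus)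
open Cfsg.Agent.Lib.Helper44.NegPairs (plusQ)
open Cfsg.Agent.Lib.Helper59.C2Stmt

theorem main : QuadVan.{u} := by
  intro F _ _ _ d x hx hxx A hA hP hAne hg u hu
  classical
  obtain ⟨U, hUA, hU0, hU2⟩ := hP
  have hQ : ∀ v : J d → F, Cfsg.quadFormPlus d F ((x : Matrix (J d) (J d) F) *ᵥ v)
      = Cfsg.quadFormPlus d F v := fun v => hx v v
  have hpl : ∀ a b c : J d → F, QuadraticMap.polar (Cfsg.quadFormPlus d F) (a + b) c
      = QuadraticMap.polar (Cfsg.quadFormPlus d F) a c
        + QuadraticMap.polar (Cfsg.quadFormPlus d F) b c :=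
    fun a b c => QuadraticMap.polar_add_left (plusQ d F) a b c
  have hpr : ∀ a b c : J d → F, QuadraticMap.polar (Cfsg.quadFormPlus d F) a (b + c)
      = QuadraticMap.polar (Cfsg.quadFormPlus d F) a b
        + QuadraticMap.polar (Cfsg.quadFormPlus d F) a c :=
    fun a b c => QuadraticMap.polar_add_right (plusQ d F) a b c
  have hsl : ∀ (k : F) (a b : J d → F), QuadraticMap.polar (Cfsg.quadFormPlus d F) (k • a) b
      = k * QuadraticMap.polar (Cfsg.quadFormPlus d F) a b :=
    fun k a b => QuadraticMap.polar_smul_left (plusQ d F) k a b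
  have hsr : ∀ (k : F) (a b : J d → F), QuadraticMap.polar (Cfsg.quadFormPlus d F) a (k • b)
      = k * QuadraticMap.polar (Cfsg.quadFormPlus d F) a b :=
    fun k a b => QuadraticMap.polar_smul_right (plusQ d F) k a b
  have hcomm : ∀ a b : J d → F, QuadraticMap.polar (Cfsg.quadFormPlus d F) a b
      = QuadraticMap.polar (Cfsg.quadFormPlus d F) b a :=
    fun a b => QuadraticMap.polar_comm _ a b
  have hQadd : ∀ a b : J d → F, Cfsg.quadFormPlus d F (a + b)
      = Cfsg.quadFormPlus d F a + Cfsg.quadFormPlus d F b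
        + QuadraticMap.polar (Cfsg.quadFormPlus d F) a b := by
    intro a b; unfold QuadraticMap.polar; ring
  have hQsmul : ∀ (k : F) (a : J d → F), Cfsg.quadFormPlus d F (k • a)
      = k * k * Cfsg.quadFormPlus d F a :=
    fun k a => QuadraticMap.map_smul (plusQ d F) k a
  have hXX : ∀ v : J d → F, (x : Matrix (J d) (J d) F) *ᵥ ((x : Matrix (J d) (J d) F) *ᵥ v) = v := by
    intro v; rw [Matrix.mulVec_mulVec, hxx, Matrix.one_mulVec]
  have hXiso : ∀ a b : J d → F, QuadraticMap.polar (Cfsg.quadFormPlus d F)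
      ((x : Matrix (J d) (J d) F) *ᵥ a) ((x : Matrix (J d) (J d) F) *ᵥ b)
      = QuadraticMap.polar (Cfsg.quadFormPlus d F) a b := by
    intro a b; unfold QuadraticMap.polar; rw [← Matrix.mulVec_add, hQ, hQ, hQ]
  have h20 : (2 : F) = 0 := CharTwo.two_eq_zero
  have hgadd : ∀ a b : J d → F, QuadraticMap.polar (Cfsg.quadFormPlus d F) (a + b)
      ((x : Matrix (J d) (J d) F) *ᵥ (a + b))
      = QuadraticMap.polar (Cfsg.quadFormPlus d F) a ((x : Matrix (J d) (J d) F) *ᵥ a)
        + QuadraticMap.polar (Cfsg.quadFormPlus d F) b ((x : Matrix (J d) (J d) F) *ᵥ b) := by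
    intro a b
    rw [Matrix.mulVec_add, hpl, hpr, hpr]
    have h1 : QuadraticMap.polar (Cfsg.quadFormPlus d F) b ((x : Matrix (J d) (J d) F) *ᵥ a)
        = QuadraticMap.polar (Cfsg.quadFormPlus d F) a ((x : Matrix (J d) (J d) F) *ᵥ b) := by
      rw [← hXiso b ((x : Matrix (J d) (J d) F) *ᵥ a), hXX, hcomm]
    rw [h1]
    linear_combination
      (QuadraticMap.polar (Cfsg.quadFormPlus d F) a ((x : Matrix (J d) (J d) F) *ᵥ b)) * h20
  have hgsmul : ∀ (k : F) (a : J d → F), QuadraticMap.polar (Cfsg.quadFormPlus d F) (k • a)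
      ((x : Matrix (J d) (J d) F) *ᵥ (k • a))
      = k * k * QuadraticMap.polar (Cfsg.quadFormPlus d F) a ((x : Matrix (J d) (J d) F) *ᵥ a) := by
    intro k a; rw [Matrix.mulVec_smul, hsl, hsr]; ring
  -- case 1
  have hc1 : ∀ f ∈ A, ∀ e' ∈ U, QuadraticMap.polar (Cfsg.quadFormPlus d F) e' f ≠ 0 →
      QuadraticMap.polar (Cfsg.quadFormPlus d F) f ((x : Matrix (J d) (J d) F) *ᵥ f) = 0 := by
    intro f hf e' he' hne
    have he'A : e' ∈ A := hUA he'
    have hQe' : Cfsg.quadFormPlus d F e' = 0 := hU0 e' he'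
    obtain ⟨c, hc⟩ : ∃ c : F, c = -(Cfsg.quadFormPlus d F f
        / QuadraticMap.polar (Cfsg.quadFormPlus d F) e' f) := ⟨_, rfl⟩
    have hw : Cfsg.quadFormPlus d F (f + c • e') = 0 := by
      rw [hQadd, hQsmul, hQe', hsr, hcomm f e', hc]
      field_simp
      ring
    have hwA : f + c • e' ∈ A := A.add_mem hf (A.smul_mem c he'A)
    have h1 := hg _ hwA hw
    have h2 := hg e' he'A hQe'
    have h4 := hgadd (f + c • e') ((-c) • e')
    have h5 : (f + c • e') + (-c) • e' = f := by rw [neg_smul]; abel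
    rw [h5] at h4
    rw [h4, h1, hgsmul, h2]; ring
  -- a nonzero vector of `U`
  have hUne : U ≠ ⊥ := by
    intro hU
    rw [hU, finrank_bot, mul_zero] at hU2
    exact hAne (Submodule.finrank_eq_zero.mp hU2.symm)
  obtain ⟨e, heU, he0⟩ := Submodule.exists_mem_ne_zero_of_ne_bot hUne
  have heA : e ∈ A := hUA heU
  obtain ⟨-, ⟨f₁, hf₁A, hf₁⟩⟩ := hA e heA he0
  by_cases hcase : ∃ e' ∈ U, QuadraticMap.polar (Cfsg.quadFormPlus d F) e' u ≠ 0
  · obtain ⟨e', he', hne⟩ := hcase
    exact hc1 u hu e' he' hne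
  · push Not at hcase
    have h1 := hc1 f₁ hf₁A e heU hf₁
    have h2 := hc1 (u + f₁) (A.add_mem hu hf₁A) e heU
      (by rw [hpr, hcase e heU, zero_add]; exact hf₁)
    have h3 := hgadd u f₁
    rw [h2, h1, add_zero] at h3
    exact h3.symm

end Cfsg.Agent.Lib.Helper48.C2QUADVAN
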