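import Mathlib
import Cfsg.Agent.Lib.Helper32.D8Stmt
import Cfsg.Agent.Lib.Helper26.GenChar
import Cfsg.Agent.Lib.Helper3.Irr
import Cfsg.Agent.Lib.Helper77.DihLat
import Cfsg.Agent.Lib.CT.ClassMult
import Cfsg.Agent.Lib.CT.Ops

/-!
# S3716 piece TRI: `Φ = 1 + 2εχ + ε'W` of norm 6 vanishing at `1, u, v`
-/

set_option autoImplicit false
set_option maxHeartbeats 1000000

namespace Cfsg.Agent.Lib.Helper48.D8TRI

open Cfsg Cfsg.Agent.Lib.CT Cfsg.Agent.Lib.Helper26.GenChar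
open Cfsg.Agent.Lib.Helper32 Cfsg.Agent.Lib.Helper3.Irr
open scoped ComplexConjugate

universe u

/-- An integer vector of norm `1` is `± e_a`. -/
theorem norm_one {X : Type*} [DecidableEq X] (T : Finset X) (c : X → ℤ)
    (h : ∑ ψ ∈ T, c ψ * c ψ = 1) :
    ∃ a ∈ T, (c a = 1 ∨ c a = -1) ∧ ∀ ψ ∈ T, ψ ≠ a → c ψ = 0 := by
  obtain ⟨a, haT, ha⟩ := Cfsg.Agent.Lib.Helper77.DihLat.exists_ne_zero T c (by rw [h]; norm_num)
  have e1 : c a * c a + ∑ ψ ∈ T.erase a, c ψ * c ψ = ∑ ψ ∈ T, c ψ * c ψ :=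
    Finset.add_sum_erase T (fun ψ => c ψ * c ψ) haT
  have n1 := Cfsg.Agent.Lib.Helper77.DihLat.sum_sq_nonneg (T.erase a) c
  have h2 : 1 ≤ c a * c a := by
    have h3 : c a ≤ -1 ∨ 1 ≤ c a := by omega
    rcases h3 with h3 | h3 <;> nlinarith
  have h4 : c a * c a = 1 := by linarith
  have h5 : ∑ ψ ∈ T.erase a, c ψ * c ψ = 0 := by linarith
  refine ⟨a, haT, mul_self_eq_one_iff.mp h4, ?_⟩
  intro ψ hψ hne
  exact Cfsg.Agent.Lib.Helper77.DihLat.all_zero _ c h5 ψ (Finset.mem_erase.mpr ⟨hne, hψ⟩)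

theorem algK (E F d D X Y A B : ℂ) (hF : F ≠ 0) (hd : d ≠ 0) (hD : D ≠ 0)
    (e0 : 0 = 1 + E * d + F * D) (h1 : 0 = 1 + E * X + F * A) (h2 : 0 = 1 + E * Y + F * B) :
    1 + E * (X * Y / d) + F * (A * B / D) = E * (d - X) * (d - Y) / (d * (1 + E * d)) := by
  have h1Ed : 1 + E * d ≠ 0 := by
    intro h
    apply mul_ne_zero hF hD
    linear_combination -h - e0
  have hA : A = -(1 + E * X) / F := by
    field_simp
    linear_combination -h1
  have hB : B = -(1 + E * Y) / F := by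
    field_simp
    linear_combination -h2
  have hD' : D = -(1 + E * d) / F := by
    field_simp
    linear_combination -e0
  rw [hA, hB, hD']
  field_simp
  ring

theorem alg3 (E F d D xu xv au av Buu Buv Bvv : ℂ) (hE : E ≠ 0) (hF : F ≠ 0) (hd : d ≠ 0)
    (hD : D ≠ 0) (e0 : 0 = 1 + E * d + F * D) (eu : 0 = 1 + E * xu + F * au)
    (ev : 0 = 1 + E * xv + F * av)
    (hBuu : Buu = 1 + E * (xu * xu / d) + F * (au * au / D))
    (hBuv : Buv = 1 + E * (xu * xv / d) + F * (au * av / D))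
    (hBvv : Bvv = 1 + E * (xv * xv / d) + F * (av * av / D)) :
    Buu * Bvv = Buv ^ 2 ∧ (Buu = 0 → xu = d) := by
  have h1Ed : 1 + E * d ≠ 0 := by
    intro h
    apply mul_ne_zero hF hD
    linear_combination -h - e0
  rw [algK E F d D xu xu au au hF hd hD e0 eu eu] at hBuu
  rw [algK E F d D xu xv au av hF hd hD e0 eu ev] at hBuv
  rw [algK E F d D xv xv av av hF hd hD e0 ev ev] at hBvv
  refine ⟨?_, ?_⟩
  · rw [hBuu, hBuv, hBvv]
    ring
  · intro h0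
    rw [hBuu, div_eq_zero_iff] at h0
    rcases h0 with h0 | h0
    · rcases mul_eq_zero.mp h0 with h3 | h3
      · rcases mul_eq_zero.mp h3 with h4 | h4
        · exact absurd h4 hE
        · exact (sub_eq_zero.mp h4).symm
      · exact (sub_eq_zero.mp h3).symm
    · exact absurd h0 (mul_ne_zero hd h1Ed)

theorem main : D8Stmt.TRI.{u} := by
  intro G _ _ Φ χ u v hΦ h1 hnorm hu hv htriv hχ hne hc2
  classical
  haveI := Cfsg.Agent.Lib.CT.Wedderburn.finite_irrCharacter G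
  haveI := Fintype.ofFinite (IrrCharacter G)
  obtain ⟨c, hc, he⟩ := exists_int_mult hΦ
  have hsq := classInner_self_eq_sum_sq c hc he
  rw [hnorm] at hsq
  have hsq' : ∑ ψ : IrrCharacter G, c ψ * c ψ = 6 := by exact_mod_cast hsq.symm
  obtain ⟨t₀, ht₀⟩ : ∃ t₀ : IrrCharacter G, (t₀ : G → ℂ) = D8Stmt.triv G :=
    ⟨⟨fun _ => (1 : ℂ), Ops.isIrrCharacter_one⟩, rfl⟩
  obtain ⟨t, ht⟩ : ∃ t : IrrCharacter G, (t : G → ℂ) = χ := ⟨⟨χ, hχ⟩, rfl⟩
  have htt₀ : t ≠ t₀ := fun h => hne (by rw [← ht, ← ht₀, h])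
  have hct₀ : c t₀ = 1 := by
    have h2 := hc t₀
    rw [ht₀, htriv] at h2
    exact_mod_cast h2.symm
  have hctC : (c t : ℂ) = 2 ∨ (c t : ℂ) = -2 := by
    rw [← hc t, ht]; exact hc2
  have hct : c t = 2 ∨ c t = -2 := by
    rcases hctC with h | h
    · left; exact_mod_cast h
    · right; exact_mod_cast h
  have hsq1 : c t * c t = 4 := by rcases hct with h | h <;> rw [h] <;> norm_num
  have htmem : t ∈ Finset.univ.erase t₀ := Finset.mem_erase.mpr ⟨htt₀, Finset.mem_univ t⟩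
  have hrest : ∑ ψ ∈ (Finset.univ.erase t₀).erase t, c ψ * c ψ = 1 := by
    have e1 : c t₀ * c t₀ + ∑ ψ ∈ Finset.univ.erase t₀, c ψ * c ψ = ∑ ψ, c ψ * c ψ :=
      Finset.add_sum_erase Finset.univ (fun ψ => c ψ * c ψ) (Finset.mem_univ t₀)
    have e2 : c t * c t + ∑ ψ ∈ (Finset.univ.erase t₀).erase t, c ψ * c ψ =
        ∑ ψ ∈ Finset.univ.erase t₀, c ψ * c ψ :=
      Finset.add_sum_erase (Finset.univ.erase t₀) (fun ψ => c ψ * c ψ) htmem
    rw [hct₀] at e1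
    linarith
  obtain ⟨a, haT, hva, hzero⟩ := norm_one _ c hrest
  have hΦ' : ∀ g, Φ g = 1 + (c t : ℂ) * χ g + (c a : ℂ) * (a : G → ℂ) g := by
    intro g
    have h2 := congrFun he g
    rw [Finset.sum_apply] at h2
    rw [h2, ← Finset.add_sum_erase _ _ (Finset.mem_univ t₀), ← Finset.add_sum_erase _ _ htmem,
      ← Finset.add_sum_erase _ _ haT]
    rw [Finset.sum_eq_zero, add_zero]
    · simp only [Pi.smul_apply, smul_eq_mul, hct₀, ht₀, ht, D8Stmt.triv]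
      push_cast
      ring
    · intro ψ hψ
      have hψa := Finset.ne_of_mem_erase hψ
      have hψ2 := Finset.mem_of_mem_erase hψ
      rw [hzero ψ hψ2 hψa]
      simp
  have hχ1 : χ 1 ≠ 0 := IsIrrCharacter.apply_one_ne_zero hχ
  have ha1 : (a : G → ℂ) 1 ≠ 0 := IsIrrCharacter.apply_one_ne_zero a.2
  have hca : (c a : ℂ) ≠ 0 := by
    rcases hva with h | h <;> rw [h] <;> norm_num
  have hcE : (c t : ℂ) ≠ 0 := by
    rcases hctC with h | h <;> rw [h] <;> norm_num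
  have hG : (Nat.card G : ℂ) ≠ 0 := by exact_mod_cast Nat.card_pos.ne'
  have hbb : ∀ x y : G, D8Stmt.bb Φ x y = 1 + (c t : ℂ) * (χ x * χ y / χ 1)
      + (c a : ℂ) * ((a : G → ℂ) x * (a : G → ℂ) y / (a : G → ℂ) 1) := by
    intro x y
    unfold D8Stmt.bb
    simp only [hΦ']
    rw [Finset.sum_add_distrib, Finset.sum_add_distrib,
      ← Finset.mul_sum, ← Finset.mul_sum,
      ClassMult.irr_schur_average hχ, ClassMult.irr_schur_average a.2, Finset.sum_const,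
      Finset.card_univ, ← Nat.card_eq_fintype_card]
    simp only [nsmul_eq_mul, mul_one]
    field_simp
  have e0 := hΦ' 1
  have eu := hΦ' u
  have ev := hΦ' v
  rw [h1] at e0
  rw [hu] at eu
  rw [hv] at ev
  exact alg3 (c t : ℂ) (c a : ℂ) (χ 1) ((a : G → ℂ) 1) (χ u) (χ v) ((a : G → ℂ) u)
    ((a : G → ℂ) v) _ _ _ hcE hca hχ1 ha1 e0 eu ev (hbb u u) (hbb u v) (hbb v v)

end Cfsg.Agent.Lib.Helper48.D8TRI
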