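import Mathlib
import Cfsg.Agent.Lib.Helper88.MCStmt

/-!
# S4245 / COMPL (second seat): a cyclic Sylow `2`-subgroup has a normal complement
-/

set_option autoImplicit false

universe u

namespace Cfsg.Agent.Lib.Helper48.MCCOMPL

open Cfsg.Agent.Lib.Helper88.MCStmt

theorem main : Compl.{u} := by
  intro G _ _ T hT
  by_cases hodd : 2 ∣ Nat.card G
  · -- even order: transfer
    have hne : Nat.card G ≠ 0 := Nat.card_pos.ne'
    have hmin : (Nat.card G).minFac = 2 := by
      rw [Nat.minFac_eq_two_iff]; exact hodd
    have hcompl := IsCyclic.isComplement' (P := T) hmin hT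
    exact ⟨(MonoidHom.transferSylow T (hT.normalizer_le_centralizer hmin)).ker,
      MonoidHom.normal_ker _, hcompl.symm.index_eq_card⟩
  · -- odd order: `T = ⊥`
    have hTcard : Nat.card (T : Subgroup G) = 1 := by
      have hdvd : Nat.card (T : Subgroup G) ∣ Nat.card G := Subgroup.card_subgroup_dvd_card _
      obtain ⟨n, hn⟩ := (IsPGroup.iff_card.mp T.isPGroup')
      rw [hn] at hdvd ⊢
      rcases Nat.eq_zero_or_pos n with h0 | hpos
      · subst h0; simp
      · exfalso
        apply hodd
        exact dvd_trans (dvd_pow_self 2 hpos.ne') hdvd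
    refine ⟨⊤, inferInstance, ?_⟩
    rw [Subgroup.index_top, hTcard]

end Cfsg.Agent.Lib.Helper48.MCCOMPL
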