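import Cfsg.Agent.Lib.Helper18.ReeMultStmt

/-!
S2113 piece LCONJ: conjugation of `lft s₁ u v` by a lift of `x t u₀ v₀`.

Key point: `cm (x t u₀ v₀) (x 0 u v) = lft s₁ 0 (u * t)`.  Both are lifts of `x 0 0 (u t)`, both
have cube `1` and both are inverted by a lift of the involution `e (-1)`; their quotient is a
central element `k` with `k = k⁻¹` and `k³ = 1`.
-/

set_option autoImplicit false

namespace Cfsg.Agent.Lib.Helper48.ReeMultLCONJ

open Cfsg.Agent.Lib.Helper18 Cfsg.Agent.Lib.Helper18.ReeMultStmt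
open scoped commutatorElement

universe u v w

theorem x_congr {G : Type u} {K : Type v} (x : K → K → K → G) {t t' u u' v v' : K}
    (ht : t = t') (hu : u = u') (hv : v = v') : x t u v = x t' u' v' := by
  subst ht hu hv; rfl

section

variable {Γ : Type w} [Group Γ] {G : Type u} [Group G] {K : Type v} [Field K] [Fintype K]
  {m : ℕ} {φ : K →+* K} {x : K → K → K → G} {e : K → G} {σ : Γ →* G}
  (E : Ext Γ G K m φ x e σ)
include E

theorem xA_mul (u v u' v' : K) : x 0 u v * x 0 u' v' = x 0 (u + u') (v + v') := by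
  rw [E.par.x_mul]; simp

theorem xtA_mul (t u v u' v' : K) : x t u v * x 0 u' v' = x t (u + u') (v + v') := by
  rw [E.par.x_mul]; simp

theorem xAt_mul (u v t u' v' : K) : x 0 u v * x t u' v' = x t (u + u') (v + v' - u * t) := by
  rw [E.par.x_mul]; simp

theorem x_zero : x 0 0 0 = 1 := by
  have h := xA_mul E 0 0 0 0
  simp only [add_zero] at h
  exact mul_left_cancel (a := x 0 0 0) (h.trans (mul_one _).symm)

theorem three_zero (a : K) : a + a + a = 0 := by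
  have h : a + a + a = 3 * a := by ring
  rw [h, E.par.char3, zero_mul]

theorem e_comm (s s' : K) (hs : s ≠ 0) (hs' : s' ≠ 0) : e s * e s' = e s' * e s := by
  rw [← E.par.e_mul s s' hs hs', ← E.par.e_mul s' s hs' hs, mul_comm]

theorem e_conj (s : K) (hs : s ≠ 0) (t u v : K) :
    e s * x t u v * (e s)⁻¹ = x (s ^ 2 / φ s ^ 3 * t) (φ s ^ 3 / s * u) (s * v) := by
  rw [E.par.e_x s hs, mul_inv_cancel_right]

theorem em_conj (t u v : K) : e (-1) * x t u v * (e (-1))⁻¹ = x (-t) u (-v) := by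
  rw [e_conj E (-1) (neg_ne_zero.2 one_ne_zero)]
  have h1 : φ (-1) = -1 := by rw [map_neg, map_one]
  have a1 : ((-1 : K)) ^ 2 / (-1) ^ 3 * t = -t := by norm_num
  have a2 : ((-1 : K)) ^ 3 / (-1) * u = u := by norm_num
  have a3 : (-1 : K) * v = -v := by ring
  rw [h1, a1, a2, a3]

theorem comm_eA (s : K) (hs : s ≠ 0) (u v : K) :
    ⁅e s, x 0 u v⁆ = x 0 (φ s ^ 3 / s * u - u) (s * v - v) := by
  rw [commutatorElement_def, e_conj E s hs, mul_zero, mul_inv_eq_iff_eq_mul, xA_mul E]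
  exact x_congr x rfl (by ring) (by ring)

theorem conj_UA (t u₀ v₀ u v : K) :
    x t u₀ v₀ * x 0 u v = x 0 u (v + u * t) * x t u₀ v₀ := by
  rw [xtA_mul E, xAt_mul E]
  exact x_congr x rfl (by ring) (by ring)

theorem comm_UA (t u₀ v₀ u v : K) : ⁅x t u₀ v₀, x 0 u v⁆ = x 0 0 (u * t) := by
  rw [commutatorElement_def, conj_UA E, mul_inv_cancel_right, mul_inv_eq_iff_eq_mul, xA_mul E]
  exact x_congr x rfl (by ring) (by ring)

theorem cm_one_right (y : G) : cm σ E.surj y 1 = 1 := by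
  have h := cm_eq σ E.surj E.cen (sec σ E.surj y) 1
  rw [sec_spec, map_one, commutatorElement_one_right] at h
  exact h.symm

theorem psi_ne (s₁ : K) (hs₁ : s₁ ≠ 0) (h3 : s₁ ^ 3 ≠ s₁) : φ s₁ ^ 3 / s₁ - 1 ≠ 0 := by
  intro h
  apply h3
  have h1 : φ s₁ ^ 3 = s₁ := by
    have h0 := sub_eq_zero.1 h
    rwa [div_eq_one_iff_eq hs₁] at h0
  have h2 : φ (φ s₁) ^ 3 = φ s₁ := by rw [← map_pow, h1]
  rw [E.par.phi3] at h2
  rw [← h2] at h1
  exact h1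

theorem s_ne (s₁ : K) (h3 : s₁ ^ 3 ≠ s₁) : s₁ - 1 ≠ 0 := by
  intro h
  apply h3
  rw [sub_eq_zero.1 h, one_pow]

theorem lft_map (s₁ : K) (hs₁ : s₁ ≠ 0) (h3 : s₁ ^ 3 ≠ s₁) (u v : K) :
    σ (lft σ E.surj φ x e s₁ u v) = x 0 u v := by
  unfold lft
  rw [map_cm, comm_eA E s₁ hs₁]
  have h1 := psi_ne E s₁ hs₁ h3
  have h2 := s_ne E s₁ h3
  generalize φ s₁ ^ 3 / s₁ = ψ at h1 ⊢
  refine x_congr x rfl ?_ ?_
  · field_simp
  · field_simp

theorem lft_zero (s₁ : K) : lft σ E.surj φ x e s₁ 0 0 = 1 := by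
  unfold lft
  rw [zero_div, zero_div, x_zero E, cm_one_right E]

variable (hZ : ∀ v t u v', cm σ E.surj (x 0 0 v) (x t u v') = 1)
  (hA : ∀ u v u' v', cm σ E.surj (x 0 u v) (x 0 u' v') = 1)
include hZ hA

theorem cmUA_mul_right (t u₀ v₀ u v u' v' : K) :
    cm σ E.surj (x t u₀ v₀) (x 0 u v * x 0 u' v') =
      cm σ E.surj (x t u₀ v₀) (x 0 u v) * cm σ E.surj (x t u₀ v₀) (x 0 u' v') := by
  rw [cm_mul_right σ E.surj E.cen]
  congr 1
  rw [mul_inv_eq_iff_eq_mul]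
  apply comm_of_cm σ E.surj E.cen
  rw [sec_spec, map_cm, comm_UA E]
  exact hA _ _ _ _

theorem cmUA_mul_left (t u₀ v₀ t' u₀' v₀' u v : K) :
    cm σ E.surj (x t u₀ v₀ * x t' u₀' v₀') (x 0 u v) =
      cm σ E.surj (x t' u₀' v₀') (x 0 u v) * cm σ E.surj (x t u₀ v₀) (x 0 u v) := by
  rw [cm_mul_left σ E.surj E.cen]
  congr 1
  rw [mul_inv_eq_iff_eq_mul]
  apply comm_of_cm σ E.surj E.cen
  rw [sec_spec, map_cm, comm_UA E, ← cm_inv, hZ, inv_one]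

theorem cm_neg_left (t u₀ v₀ u v : K) :
    cm σ E.surj (x (-t) u₀ (-v₀)) (x 0 u v) = (cm σ E.surj (x t u₀ v₀) (x 0 u v))⁻¹ := by
  have h := cmUA_mul_left E hZ hA t u₀ v₀ (-t) u₀ (-v₀) u v
  rw [E.par.x_mul, add_neg_cancel, hA] at h
  exact eq_inv_of_mul_eq_one_left h.symm

theorem cm_right_z (t u₀ v₀ u v v' : K) :
    cm σ E.surj (x t u₀ v₀) (x 0 u v') = cm σ E.surj (x t u₀ v₀) (x 0 u v) := by
  have h := cmUA_mul_right E hZ hA t u₀ v₀ u v 0 (v' - v)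
  have h1 : cm σ E.surj (x t u₀ v₀) (x 0 0 (v' - v)) = 1 := by
    rw [← cm_inv, hZ, inv_one]
  rw [h1, mul_one, xA_mul E] at h
  rw [← h]
  congr 1
  exact x_congr x rfl (by ring) (by ring)

theorem conj_beta (t u₀ v₀ u v : K) :
    sec σ E.surj (e (-1)) * cm σ E.surj (x t u₀ v₀) (x 0 u v) * (sec σ E.surj (e (-1)))⁻¹ =
      (cm σ E.surj (x t u₀ v₀) (x 0 u v))⁻¹ := by
  rw [conj_cm σ E.surj E.cen, sec_spec, em_conj E, em_conj E, neg_zero,
    cm_neg_left E hZ hA t u₀ v₀ u (-v), cm_right_z E hZ hA t u₀ v₀ u v (-v)]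

theorem beta_cube (t u₀ v₀ u v : K) :
    cm σ E.surj (x t u₀ v₀) (x 0 u v) * cm σ E.surj (x t u₀ v₀) (x 0 u v) *
      cm σ E.surj (x t u₀ v₀) (x 0 u v) = 1 := by
  have e1 := cmUA_mul_right E hZ hA t u₀ v₀ u v u v
  have e2 := cmUA_mul_right E hZ hA t u₀ v₀ (u + u) (v + v) u v
  rw [xA_mul E] at e1
  rw [e1, xA_mul E, three_zero E, three_zero E, x_zero E, cm_one_right E] at e2
  exact e2.symm

theorem cmeA_mul (s : K) (hs : s ≠ 0) (u v u' v' : K) :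
    cm σ E.surj (e s) (x 0 u v * x 0 u' v') =
      cm σ E.surj (e s) (x 0 u v) * cm σ E.surj (e s) (x 0 u' v') := by
  rw [cm_mul_right σ E.surj E.cen]
  congr 1
  rw [mul_inv_eq_iff_eq_mul]
  apply comm_of_cm σ E.surj E.cen
  rw [sec_spec, map_cm, comm_eA E s hs]
  exact hA _ _ _ _

theorem lft_mul (s₁ : K) (hs₁ : s₁ ≠ 0) (u v u' v' : K) :
    lft σ E.surj φ x e s₁ u v * lft σ E.surj φ x e s₁ u' v' =
      lft σ E.surj φ x e s₁ (u + u') (v + v') := by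
  unfold lft
  rw [← cmeA_mul E hZ hA s₁ hs₁, xA_mul E, add_div, add_div]

theorem lft_neg (s₁ : K) (hs₁ : s₁ ≠ 0) (u v : K) :
    lft σ E.surj φ x e s₁ (-u) (-v) = (lft σ E.surj φ x e s₁ u v)⁻¹ := by
  have h := lft_mul E hZ hA s₁ hs₁ u v (-u) (-v)
  rw [add_neg_cancel, add_neg_cancel, lft_zero E] at h
  exact eq_inv_of_mul_eq_one_right h

theorem lft_cube (s₁ : K) (hs₁ : s₁ ≠ 0) (u v : K) :
    lft σ E.surj φ x e s₁ u v * lft σ E.surj φ x e s₁ u v * lft σ E.surj φ x e s₁ u v = 1 := by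
  rw [lft_mul E hZ hA s₁ hs₁, lft_mul E hZ hA s₁ hs₁, three_zero E, three_zero E, lft_zero E]

theorem conj_lft_m (s₁ : K) (hs₁ : s₁ ≠ 0) (z : K) :
    sec σ E.surj (e (-1)) * lft σ E.surj φ x e s₁ 0 z * (sec σ E.surj (e (-1)))⁻¹ =
      (lft σ E.surj φ x e s₁ 0 z)⁻¹ := by
  rw [← lft_neg E hZ hA s₁ hs₁, neg_zero]
  unfold lft
  have hm1 : (-1 : K) ≠ 0 := neg_ne_zero.2 one_ne_zero
  rw [conj_cm σ E.surj E.cen, sec_spec, em_conj E, neg_zero, zero_div, neg_div]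
  congr 1
  rw [mul_inv_eq_iff_eq_mul]
  exact e_comm E (-1) s₁ hm1 hs₁

/-- the commutator of lifts of `x t u₀ v₀` and `x 0 u v` is the canonical lift of `x 0 0 (u t)` -/
theorem key (s₁ : K) (hs₁ : s₁ ≠ 0) (h3 : s₁ ^ 3 ≠ s₁) (t u₀ v₀ u v : K) :
    cm σ E.surj (x t u₀ v₀) (x 0 u v) = lft σ E.surj φ x e s₁ 0 (u * t) := by
  have c1 := conj_beta E hZ hA t u₀ v₀ u v
  have c2 := conj_lft_m E hZ hA s₁ hs₁ (u * t)
  have b3 := beta_cube E hZ hA t u₀ v₀ u v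
  have w3 := lft_cube E hZ hA s₁ hs₁ 0 (u * t)
  have sb : σ (cm σ E.surj (x t u₀ v₀) (x 0 u v)) = x 0 0 (u * t) := by
    rw [map_cm, comm_UA E]
  have sw := lft_map E s₁ hs₁ h3 0 (u * t)
  generalize cm σ E.surj (x t u₀ v₀) (x 0 u v) = β at c1 b3 sb ⊢
  generalize lft σ E.surj φ x e s₁ 0 (u * t) = ω at c2 w3 sw ⊢
  generalize sec σ E.surj (e (-1)) = h at c1 c2
  have hk : β * ω⁻¹ ∈ σ.ker := by
    rw [MonoidHom.mem_ker, map_mul, map_inv, sb, sw, mul_inv_cancel]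
  have hkc : ∀ g : Γ, g * (β * ω⁻¹) = β * ω⁻¹ * g :=
    fun g => Subgroup.mem_center_iff.mp (E.cen hk) g
  generalize hkdef : β * ω⁻¹ = k at hkc
  have hβ : β = k * ω := by rw [← hkdef, inv_mul_cancel_right]
  rw [hβ] at c1 b3
  have q1 : h * (k * ω) * h⁻¹ = k * (h * ω * h⁻¹) := by
    have h0 := hkc h
    calc h * (k * ω) * h⁻¹ = (h * k) * ω * h⁻¹ := by group
      _ = (k * h) * ω * h⁻¹ := by rw [h0]
      _ = k * (h * ω * h⁻¹) := by group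
  have q2 : (k * ω)⁻¹ = k⁻¹ * ω⁻¹ := by
    rw [← hkc ω, mul_inv_rev]
  rw [q1, c2, q2] at c1
  have q3 : k = k⁻¹ := mul_right_cancel c1
  have q4 : k * ω * (k * ω) * (k * ω) = k * k * k * (ω * ω * ω) := by
    have h0 := hkc ω
    calc k * ω * (k * ω) * (k * ω) = k * (ω * k) * (ω * k) * ω := by group
      _ = k * (k * ω) * (k * ω) * ω := by rw [h0]
      _ = k * k * (ω * k) * ω * ω := by group
      _ = k * k * (k * ω) * ω * ω := by rw [h0]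
      _ = k * k * k * (ω * ω * ω) := by group
  rw [q4, w3, mul_one] at b3
  have q5 : k * k = 1 := by
    nth_rewrite 2 [q3]
    exact mul_inv_cancel k
  rw [q5, one_mul] at b3
  rw [hβ, b3, one_mul]

theorem main' (s₁ : K) (hs₁ : s₁ ≠ 0) (h3 : s₁ ^ 3 ≠ s₁) (γ : Γ) (t u₀ v₀ : K)
    (hγ : σ γ = x t u₀ v₀) (u v : K) :
    γ * lft σ E.surj φ x e s₁ u v * γ⁻¹ = lft σ E.surj φ x e s₁ u (v + u * t) := by
  have h1 : γ * lft σ E.surj φ x e s₁ u v * γ⁻¹ =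
      ⁅γ, lft σ E.surj φ x e s₁ u v⁆ * lft σ E.surj φ x e s₁ u v := by
    rw [commutatorElement_def, inv_mul_cancel_right]
  rw [h1, cm_eq σ E.surj E.cen, hγ, lft_map E s₁ hs₁ h3, key E hZ hA s₁ hs₁ h3,
    lft_mul E hZ hA s₁ hs₁]
  congr 1
  · rw [zero_add]
  · rw [add_comm]

end

theorem main : LCONJ.{u, v, w} := by
  intro Γ _ G _ K _ _ m φ x e σ E s₁ hs₁ h3 hZ hA γ t u₀ v₀ hγ u v
  exact main' E hZ hA s₁ hs₁ h3 γ t u₀ v₀ hγ u v

end Cfsg.Agent.Lib.Helper48.ReeMultLCONJ
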