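import Mathlib
import Cfsg.Agent.Lib.Helper48.SSKey
import Cfsg.Agent.Lib.Helper9.ProdCyc
import Cfsg.Agent.Lib.Helper33.Omega
import Cfsg.Agent.Lib.Helper63.PFrattini
import Cfsg.Agent.Lib.Helper70.HallHigman

set_option autoImplicit false

/-!
# Normal `q`-subgroups all of whose subgroups of a fixed order are normal

`ss_key`: `Q` a normal `q`-subgroup of the finite group `G` with `G ⧸ Q` supersolvable, such that
every subgroup of `Q` of order `|D|` (`1 < |D| < |Q|`), and of order `4` if `|D| = 2`, is normal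
in `G`.  Then `G` is supersolvable.
-/

namespace Cfsg.Agent.Lib.Helper48.SSKey2

open Subgroup Cfsg.Agent.H9 Cfsg.Agent.Lib.Helper9.Hup2 Cfsg.Agent.Lib.Helper48.SSKey

universe u

/-- In a `q`-subgroup `Q`, a subgroup `H` of order at most `q ^ a ≤ |Q|` lies in a subgroup of
`Q` of order `q ^ a`. -/
theorem exists_between {G : Type u} [Group G] [Finite G] (q : ℕ) [hq : Fact q.Prime]
    (Q H : Subgroup G) (hQ : IsPGroup q Q) (hHQ : H ≤ Q) (a : ℕ) (hH : Nat.card H ≤ q ^ a)
    (ha : q ^ a ≤ Nat.card Q) :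
    ∃ K : Subgroup G, H ≤ K ∧ K ≤ Q ∧ Nat.card K = q ^ a := by
  obtain ⟨b, hb⟩ := IsPGroup.iff_card.mp hQ
  obtain ⟨n, hn⟩ := IsPGroup.iff_card.mp (hQ.to_le hHQ)
  have hna : n ≤ a := by
    rw [hn] at hH
    exact (Nat.pow_le_pow_iff_right hq.out.one_lt).mp hH
  have hab : a ≤ b := by
    rw [hb] at ha
    exact (Nat.pow_le_pow_iff_right hq.out.one_lt).mp ha
  have hH' : Nat.card (H.subgroupOf Q) = q ^ n := by
    rw [← hn]
    exact Nat.card_congr (Subgroup.subgroupOfEquivOfLe hHQ).toEquiv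
  have hdvd : q ^ a ∣ Nat.card Q := by
    rw [hb]; exact pow_dvd_pow q hab
  obtain ⟨K', hK', hle⟩ :=
    Sylow.exists_subgroup_card_pow_prime_le q hdvd (H.subgroupOf Q) hH' hna
  refine ⟨K'.map Q.subtype, ?_, Subgroup.map_subtype_le K', ?_⟩
  · intro x hx
    exact ⟨⟨x, hHQ hx⟩, hle (Subgroup.mem_subgroupOf.mpr hx), rfl⟩
  · rw [Subgroup.card_map_of_injective (Subgroup.subtype_injective Q), hK']

/-- A `q'`-element acting trivially on `F / M` for every maximal subgroup `M` of the normal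
`q`-subgroup `F` centralizes `F` (Burnside). -/
theorem centralizes_of_trivial_mod_coatoms {G : Type u} [Group G] [Finite G] (q : ℕ)
    [hq : Fact q.Prime] (F : Subgroup G) [hFn : F.Normal] (hF : IsPGroup q F) (t : G)
    (hto : (orderOf t).Coprime q)
    (h : ∀ M : Subgroup G, M ≤ F → M.relIndex F = q → ∀ x ∈ F, t * x * t⁻¹ * x⁻¹ ∈ M) :
    ∀ x ∈ F, t * x * t⁻¹ = x := by
  let β : MulAut F := MulAut.conjNormal t
  have hβapp : ∀ x : F, ((β x : F) : G) = t * x * t⁻¹ := fun x => MulAut.conjNormal_apply t x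
  have hβ : β ∈ Cfsg.Agent.S4189.frattiniKer F := by
    intro x
    rw [Cfsg.Agent.Lib.Helper63.PFrattini.mem_frattini_iff]
    intro M' hM'
    have hidx := Cfsg.Agent.Lib.Helper63.PFrattini.coatom_index hF M' hM'
    have hrel : (M'.map F.subtype).relIndex F = q := by
      rw [Subgroup.relIndex, Subgroup.subgroupOf,
        Subgroup.comap_map_eq_self_of_injective (Subgroup.subtype_injective F), hidx]
    obtain ⟨y, hy, hyx⟩ := h (M'.map F.subtype) (Subgroup.map_subtype_le M') hrel x x.2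
    have h1 : β x * x⁻¹ = y := by
      apply Subtype.ext
      rw [Subgroup.coe_mul, hβapp, Subgroup.coe_inv]
      exact hyx.symm
    rw [h1]; exact hy
  have hpg := Cfsg.Agent.Lib.Helper70.HallHigman.isPGroup_frattiniKer (P := F) hF
  obtain ⟨k, hk⟩ := hpg ⟨β, hβ⟩
  have hk' : β ^ (q ^ k) = 1 := congrArg Subtype.val hk
  have h1 : β ^ orderOf t = 1 := by
    show (MulAut.conjNormal t : MulAut F) ^ orderOf t = 1
    rw [← map_pow, pow_orderOf_eq_one, map_one]
  have h3 : orderOf β ∣ 1 := by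
    rw [← Nat.Coprime.gcd_eq_one (Nat.Coprime.pow_right k hto)]
    exact Nat.dvd_gcd (orderOf_dvd_of_pow_eq_one h1) (orderOf_dvd_of_pow_eq_one hk')
  have h4 : β = 1 := orderOf_eq_one_iff.mp (Nat.dvd_one.mp h3)
  intro x hx
  have h5 := congrArg (fun α : MulAut F => ((α ⟨x, hx⟩ : F) : G)) h4
  simpa [β, MulAut.conjNormal_apply] using h5

/-- If every subgroup of order `q ^ a` (and of order `4` when `q ^ a = 2`) of the normal
`q`-subgroup `Q` is normal in `G`, `q ^ a < |Q|`, then the `q'`-elements of the subgroup generated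
by commutators and `(q-1)`-th powers centralize `Q`. -/
theorem centralizes_of_dsub {G : Type u} [Group G] [Finite G] (q : ℕ) [hq : Fact q.Prime]
    (Q : Subgroup G) [hQn : Q.Normal] (hQ : IsPGroup q Q) (a : ℕ) (ha : 0 < a)
    (hlt : q ^ a < Nat.card Q)
    (hnorm : ∀ F : Subgroup G, F ≤ Q → (Nat.card F = q ^ a ∨ (q ^ a = 2 ∧ Nat.card F = 4)) →
      F.Normal)
    (t : G) (ht : t ∈ dsub (q - 1) G) (hto : (orderOf t).Coprime q) :
    ∀ x ∈ Q, x * t = t * x := by
  have hq1 := hq.out.one_lt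
  have htQ : t ∈ Subgroup.normalizer (Q : Set G) := by
    rw [Subgroup.normalizer_eq_top]; exact Subgroup.mem_top t
  apply Cfsg.Agent.Lib.Helper33.Omega.centralizes_of_centralizes_om q t hto Q hQ htQ
  intro w hwQ hom
  by_cases hw1 : w = 1
  · subst hw1; simp
  have hword : orderOf w = q ∨ (q = 2 ∧ orderOf w = 4) := by
    rcases hom with h | ⟨h2, h4⟩
    · left; exact orderOf_eq_prime h hw1
    · have hd : orderOf w ∣ 2 ^ 2 := orderOf_dvd_of_pow_eq_one (by norm_num; exact h4)
      obtain ⟨j, hj, hj'⟩ := (Nat.dvd_prime_pow Nat.prime_two).mp hd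
      interval_cases j
      · exfalso; apply hw1
        exact orderOf_eq_one_iff.mp (by simpa using hj')
      · left; rw [h2]; simpa using hj'
      · right; exact ⟨h2, by simpa using hj'⟩
  have key : (zpowers w).Normal → w * t = t * w := by
    intro hWn
    have h1 : t * w * t⁻¹ = w := by
      rcases hword with h | ⟨h2, h4⟩
      · exact dsub_centralizes_prime q (zpowers w) (by rw [Nat.card_zpowers, h]) t ht w
          (mem_zpowers w)
      · refine centralizes_of_coprime_totient (zpowers w) inferInstance t ?_ w (mem_zpowers w)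
        rw [Nat.card_zpowers, h4]
        have h42 : Nat.totient 4 = 2 := by decide
        rw [h42, ← h2]; exact hto
    calc w * t = (t * w * t⁻¹) * t := by rw [h1]
      _ = t * w := by group
  by_cases hc1 : q ^ a = 2 ∧ orderOf w = 4
  · exact key (hnorm _ (zpowers_le.mpr hwQ) (Or.inr ⟨hc1.1, by rw [Nat.card_zpowers, hc1.2]⟩))
  have hle : Nat.card (zpowers w) ≤ q ^ a := by
    rw [Nat.card_zpowers]
    rcases hword with h | ⟨h2, h4⟩
    · rw [h]; exact Nat.le_self_pow ha.ne' q
    · rw [h4]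
      have ha2 : 2 ≤ a := by
        by_contra hlt2
        have ha1 : a = 1 := by omega
        apply hc1
        exact ⟨by rw [ha1, h2]; norm_num, h4⟩
      calc 4 = 2 ^ 2 := by norm_num
        _ ≤ 2 ^ a := Nat.pow_le_pow_right (by norm_num) ha2
        _ = q ^ a := by rw [h2]
  obtain ⟨E₁, hWE, hEQ, hEc⟩ :=
    exists_between q Q (zpowers w) hQ (zpowers_le.mpr hwQ) a hle hlt.le
  have hsucc : q ^ (a + 1) ≤ Nat.card Q := by
    obtain ⟨b, hb⟩ := IsPGroup.iff_card.mp hQ
    rw [hb] at hlt ⊢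
    have hab : a < b := (Nat.pow_lt_pow_iff_right hq1).mp hlt
    exact Nat.pow_le_pow_right hq.out.pos hab
  obtain ⟨F, hEF, hFQ, hFc⟩ := exists_between q Q E₁ hQ hEQ (a + 1)
    (by rw [hEc]; exact Nat.pow_le_pow_right hq.out.pos (Nat.le_succ a)) hsucc
  have hEn : E₁.Normal := hnorm E₁ hEQ (Or.inl hEc)
  have hFp : IsPGroup q F := hQ.to_le hFQ
  by_cases huniq : ∀ M : Subgroup G, M ≤ F → Nat.card M = q ^ a → M = E₁
  · -- `F` is cyclic
    obtain ⟨x, hxF, hxE⟩ : ∃ x ∈ F, x ∉ E₁ := by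
      by_contra hcon
      have hFE : F ≤ E₁ := by
        intro y hy
        by_contra hy'
        exact hcon ⟨y, hy, hy'⟩
      have h1 := Subgroup.card_le_of_le hFE
      rw [hFc, hEc] at h1
      exact absurd h1 (not_le.mpr (Nat.pow_lt_pow_right hq1 (Nat.lt_succ_self a)))
    have hFx : zpowers x = F := by
      by_contra hne
      have hxle : zpowers x ≤ F := zpowers_le.mpr hxF
      have hlt' : Nat.card (zpowers x) < Nat.card F :=
        Cfsg.Agent.Lib.Helper24.Coprime.card_lt_of_le_of_ne hxle hne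
      obtain ⟨m, hm⟩ := IsPGroup.iff_card.mp (hFp.to_le hxle)
      have hma : Nat.card (zpowers x) ≤ q ^ a := by
        rw [hm, hFc] at hlt'
        rw [hm]
        have hm1 : m < a + 1 := (Nat.pow_lt_pow_iff_right hq1).mp hlt'
        exact Nat.pow_le_pow_right hq.out.pos (Nat.lt_succ_iff.mp hm1)
      obtain ⟨M, hxM, hMF, hMc⟩ := exists_between q F (zpowers x) hFp hxle a hma
        (by rw [hFc]; exact Nat.pow_le_pow_right hq.out.pos (Nat.le_succ a))
      have hME := huniq M hMF hMc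
      exact hxE (hME ▸ hxM (mem_zpowers x))
    apply key
    constructor
    intro y hy g
    have hmap : (zpowers w).map (MulAut.conj g).toMonoidHom = zpowers w := by
      have hcx : IsCyclic (zpowers x) := inferInstance
      apply Cfsg.Agent.Lib.Helper9.ProdCyc.eq_of_card_eq_of_le_cyclic (zpowers x)
      · rw [hFx]
        rintro _ ⟨z, hz, rfl⟩
        exact hEF (hEn.conj_mem z (hWE hz) g)
      · rw [hFx]; exact hWE.trans hEF
      · exact Subgroup.card_map_of_injective (MulAut.conj g).injective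
    rw [← hmap]
    exact ⟨y, hy, rfl⟩
  · -- `F` has two maximal subgroups
    have huniq' : ∃ M₂ : Subgroup G, M₂ ≤ F ∧ Nat.card M₂ = q ^ a ∧ M₂ ≠ E₁ := by
      by_contra hcon
      apply huniq
      intro M hMF hMc
      by_contra hne
      exact hcon ⟨M, hMF, hMc, hne⟩
    obtain ⟨M₂, hM₂F, hM₂c, hM₂ne⟩ := huniq'
    have hM₂n : M₂.Normal := hnorm M₂ (hM₂F.trans hFQ) (Or.inl hM₂c)
    have hFsup : E₁ ⊔ M₂ = F := by
      have hle' : E₁ ⊔ M₂ ≤ F := sup_le hEF hM₂F
      have hElt : E₁ < E₁ ⊔ M₂ := by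
        refine lt_of_le_of_ne le_sup_left ?_
        intro heq
        have h2 : M₂ ≤ E₁ := heq ▸ le_sup_right
        exact hM₂ne (Subgroup.eq_of_le_of_card_ge h2 (by rw [hEc, hM₂c]))
      obtain ⟨m, hm⟩ := IsPGroup.iff_card.mp (hFp.to_le hle')
      have h3 : q ^ a < q ^ m := by
        rw [← hEc, ← hm]
        exact Cfsg.Agent.Lib.Helper24.Coprime.card_lt_of_le_of_ne hElt.le hElt.ne
      have h4 : a < m := (Nat.pow_lt_pow_iff_right hq1).mp h3
      apply Subgroup.eq_of_le_of_card_ge hle'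
      rw [hFc, hm]
      exact Nat.pow_le_pow_right hq.out.pos h4
    have hFn : F.Normal := by rw [← hFsup]; infer_instance
    have hcent : ∀ x ∈ F, t * x * t⁻¹ = x := by
      apply centralizes_of_trivial_mod_coatoms q F hFp t hto
      intro M hMF hMrel x hx
      have hMc : Nat.card M = q ^ a := by
        have h1 := Cfsg.Agent.Lib.Helper9.SS3.card_mul_relIndex hMF
        rw [hMrel, hFc, pow_succ] at h1
        exact Nat.eq_of_mul_eq_mul_right hq.out.pos h1
      have hMn : M.Normal := hnorm M (hMF.trans hFQ) (Or.inl hMc)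
      have hZn : (F.map (QuotientGroup.mk' M)).Normal :=
        hFn.map _ (QuotientGroup.mk'_surjective M)
      have hZc : Nat.card (F.map (QuotientGroup.mk' M)) = q := by
        rw [← hMrel, ← Subgroup.relIndex_ker, QuotientGroup.ker_mk']
      have h2 := dsub_centralizes_prime q (F.map (QuotientGroup.mk' M)) hZc
        (QuotientGroup.mk' M t) (map_dsub_le _ _ ⟨t, ht, rfl⟩) (QuotientGroup.mk' M x)
        ⟨x, hx, rfl⟩
      have h3 : (QuotientGroup.mk' M) (t * x * t⁻¹ * x⁻¹) = 1 := by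
        rw [map_mul, map_mul, map_mul, map_inv, map_inv, h2, mul_inv_cancel]
      exact (QuotientGroup.eq_one_iff _).mp h3
    have h1 := hcent w (hEF (hWE (mem_zpowers w)))
    calc w * t = (t * w * t⁻¹) * t := by rw [h1]
      _ = t * w := by group

/-- Key lemma: a normal `q`-subgroup `Q` with supersolvable quotient all of whose subgroups of
order `|D|` (and of order `4` when `|D| = 2`) are normal in `G`. -/
theorem ss_key {G : Type u} [Group G] [Finite G] (q : ℕ) [hq : Fact q.Prime] (Q : Subgroup G)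
    [hQn : Q.Normal] (hQ : IsPGroup q Q) (hss : Cfsg.IsSupersolvable (G ⧸ Q)) (D : Subgroup G)
    (hDQ : D ≤ Q) (hD1 : 1 < Nat.card D) (hDlt : Nat.card D < Nat.card Q)
    (hnorm : ∀ F : Subgroup G, F ≤ Q →
      (Nat.card F = Nat.card D ∨ (Nat.card D = 2 ∧ Nat.card F = 4)) → F.Normal) :
    Cfsg.IsSupersolvable G := by
  obtain ⟨a, ha⟩ := IsPGroup.iff_card.mp (hQ.to_le hDQ)
  have ha0 : 0 < a := by
    rcases Nat.eq_zero_or_pos a with h | h
    · rw [h, pow_zero] at ha; omega
    · exact h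
  rw [ha] at hDlt hnorm
  refine ss_of_hyper q _ G rfl Q hQ ?_ hss
  intro t ht
  obtain ⟨k, m, hm, hkm⟩ :=
    Nat.exists_eq_pow_mul_and_not_dvd (orderOf_pos t).ne' q hq.out.ne_one
  refine ⟨k, ?_⟩
  have ht' : t ^ (q ^ k) ∈ dsub (q - 1) G := pow_mem ht _
  have hto : (orderOf (t ^ (q ^ k))).Coprime q := by
    have h1 : (t ^ (q ^ k)) ^ m = 1 := by
      rw [← pow_mul, ← hkm, pow_orderOf_eq_one]
    have h2 : m.Coprime q := ((Nat.Prime.coprime_iff_not_dvd hq.out).mpr hm).symm
    exact Nat.Coprime.coprime_dvd_left (orderOf_dvd_of_pow_eq_one h1) h2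
  intro x hx
  exact (centralizes_of_dsub q Q hQ a ha0 hDlt hnorm _ ht' hto x hx).symm

end Cfsg.Agent.Lib.Helper48.SSKey2
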