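import Mathlib
import Cfsg.Prelude.Def_Transfer
import Cfsg.Agent.Lib.Helper48.SSKey2
import Cfsg.Agent.Lib.Helper2.PComp
import Cfsg.Agent.Lib.Helper64.Frattini

set_option autoImplicit false

/-!
# Supersolvability from strongly closed subgroups of fixed order (reduction to `p`-nilpotency)

`main`: the statement of S3032, given the `p`-nilpotency criterion S3031 as a hypothesis
(at the universe of `G`).
-/

namespace Cfsg.Agent.Lib.Helper48.SSMain

open Subgroup Cfsg.Agent.H9 Cfsg.Agent.Lib.Helper48.SSKey Cfsg.Agent.Lib.Helper48.SSKey2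

universe u

theorem eq_one_of_pgroup_coprime {G : Type u} [Group G] {p : ℕ} {R : Subgroup G}
    (hR : IsPGroup p R) {x : G} (hx : x ∈ R) (hc : (orderOf x).Coprime p) : x = 1 := by
  obtain ⟨k, hk⟩ := hR ⟨x, hx⟩
  have h1 : x ^ (p ^ k) = 1 := by
    have := congrArg Subtype.val hk
    simpa using this
  have h2 : orderOf x ∣ p ^ k := orderOf_dvd_of_pow_eq_one h1
  exact orderOf_eq_one_iff.mp (Nat.Coprime.eq_one_of_dvd (Nat.Coprime.pow_right k hc) h2)

/-- A subgroup `F` of the `p`-group `P` with `gFg⁻¹ ∩ N_G(F) ≤ F` for all `g` is normal in `P`. -/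
theorem le_normalizer_of_closed {G : Type u} [Group G] [Finite G] {p : ℕ} [Fact p.Prime]
    (P F : Subgroup G) (hP : IsPGroup p P) (hFP : F ≤ P)
    (hF : ∀ g : G, F.map (MulAut.conj g).toMonoidHom ⊓ Subgroup.normalizer (F : Set G) ≤ F) :
    P ≤ Subgroup.normalizer (F : Set G) := by
  by_contra hcon
  have hcon' : ¬ P ≤ P ⊓ Subgroup.normalizer (F : Set G) := fun h => hcon (h.trans inf_le_right)
  obtain ⟨d, hdP, hdT, hd⟩ := Cfsg.Agent.Lib.Helper64.Frattini.exists_normalizing_not_mem P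
    (P ⊓ Subgroup.normalizer (F : Set G)) P hP inf_le_left le_rfl
    (fun s hs d hd => mul_mem (mul_mem hs hd) (inv_mem hs)) hcon'
  apply hdT
  refine ⟨hdP, ?_⟩
  apply Cfsg.Agent.Lib.Helper64.Frattini.mem_normalizer_of_conj_mem
  intro y hy
  have h1 := hd y ⟨hFP hy, Subgroup.le_normalizer hy⟩
  exact hF d ⟨⟨y, hy, rfl⟩, h1.2⟩

theorem main
    (H3031 : ∀ (X : Type u) [Group X] [Finite X] (p : ℕ) [Fact p.Prime], p ∣ Nat.card X →
      (∀ q : ℕ, q.Prime → q ∣ Nat.card X → p ≤ q) → ∀ (P : Sylow p X),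
      (IsCyclic ↥(P : Subgroup X) ∨ ∃ D : Subgroup X, D ≤ (P : Subgroup X) ∧ 1 < Nat.card D ∧
        Nat.card D < Nat.card (P : Subgroup X) ∧
        ∀ E : Subgroup X, E ≤ (P : Subgroup X) →
          (Nat.card E = Nat.card D ∨ (Nat.card D = 2 ∧ Nat.card E = 4)) →
          ∀ g : X, E.map (MulAut.conj g).toMonoidHom ⊓ Subgroup.normalizer (E : Set X) ≤ E) →
      Cfsg.HasNormalPComplement p X)
    {G : Type u} [Group G] [Finite G] :
    ∀ (n : ℕ) (E : Subgroup G) [E.Normal], Nat.card E = n → Cfsg.IsSupersolvable (G ⧸ E) →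
    (∀ (p : ℕ), p.Prime → ∀ P : Subgroup G, P ≤ E → IsPGroup p P → ¬ p ∣ P.relIndex E →
      ¬ IsCyclic ↥P →
      ∃ D : Subgroup G, D ≤ P ∧ 1 < Nat.card D ∧ Nat.card D < Nat.card P ∧
        ∀ F : Subgroup G, F ≤ P → (Nat.card F = Nat.card D ∨ (Nat.card D = 2 ∧ Nat.card F = 4)) →
          ∀ g : G, F.map (MulAut.conj g).toMonoidHom ⊓ Subgroup.normalizer (F : Set G) ≤ F) →
    Cfsg.IsSupersolvable G := by
  intro n
  induction n using Nat.strong_induction_on with
  | _ n ih =>
  intro E hEn hcard hss h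
  by_cases hEb : E = ⊥
  · subst hEb
    exact isSupersolvable_of_mulEquiv (QuotientGroup.quotientBot (G := G)) hss
  have hcard1 : Nat.card E ≠ 1 := fun h => hEb (Subgroup.card_eq_one.mp h)
  obtain ⟨p, hpdef⟩ : ∃ p, p = (Nat.card E).minFac := ⟨_, rfl⟩
  have hp : p.Prime := hpdef ▸ Nat.minFac_prime hcard1
  have hpF : Fact p.Prime := ⟨hp⟩
  have hpdvd : p ∣ Nat.card E := hpdef ▸ Nat.minFac_dvd _
  have hpmin : ∀ q : ℕ, q.Prime → q ∣ Nat.card E → p ≤ q := fun q hq hqd =>
    hpdef ▸ Nat.minFac_le_of_dvd hq.two_le hqd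
  obtain ⟨P₀⟩ : Nonempty (Sylow p E) := inferInstance
  obtain ⟨P, hPdef⟩ : ∃ P : Subgroup G, P = (P₀ : Subgroup E).map E.subtype := ⟨_, rfl⟩
  have hPE : P ≤ E := hPdef ▸ Subgroup.map_subtype_le _
  have hPp : IsPGroup p P := hPdef ▸ P₀.isPGroup'.map _
  have hPrelidx : P.relIndex E = (P₀ : Subgroup E).index := by
    rw [hPdef, Subgroup.relIndex, Subgroup.subgroupOf,
      Subgroup.comap_map_eq_self_of_injective (Subgroup.subtype_injective E)]
  have hPrel : ¬ p ∣ P.relIndex E := by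
    rw [hPrelidx]; exact P₀.not_dvd_index
  have hPcard : Nat.card P = Nat.card (P₀ : Subgroup E) := by
    rw [hPdef]; exact Subgroup.card_map_of_injective (Subgroup.subtype_injective E)
  have hmemP : ∀ x : E, (x : G) ∈ P → x ∈ (P₀ : Subgroup E) := by
    intro x hx
    rw [hPdef] at hx
    obtain ⟨y, hy, hyx⟩ := hx
    have : y = x := Subtype.ext hyx
    exact this ▸ hy
  -- the normal `p`-complement of `E`
  have hcomp : Cfsg.HasNormalPComplement p E := by
    apply H3031 E p hpdvd hpmin P₀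
    by_cases hcyc : IsCyclic ↥P
    · left
      have e : ↥(P₀ : Subgroup E) ≃* ↥P := hPdef ▸
        Subgroup.equivMapOfInjective (P₀ : Subgroup E) E.subtype (Subgroup.subtype_injective E)
      exact isCyclic_of_surjective e.symm e.symm.surjective
    · right
      obtain ⟨D, hDP, hD1, hDlt, hD⟩ := h p hp P hPE hPp hPrel hcyc
      have hDc : Nat.card (D.subgroupOf E) = Nat.card D :=
        Nat.card_congr (Subgroup.subgroupOfEquivOfLe (hDP.trans hPE)).toEquiv
      refine ⟨D.subgroupOf E, ?_, ?_, ?_, ?_⟩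
      · intro x hx
        exact hmemP x (hDP (Subgroup.mem_subgroupOf.mp hx))
      · rw [hDc]; exact hD1
      · rw [hDc, ← hPcard]; exact hDlt
      · intro E' hE' hc g x hx
        rw [hDc] at hc
        have hcardE' : Nat.card (E'.map E.subtype) = Nat.card E' :=
          Subgroup.card_map_of_injective (Subgroup.subtype_injective E)
        have hE'P : E'.map E.subtype ≤ P := hPdef ▸ Subgroup.map_mono hE'
        have hF := hD (E'.map E.subtype) hE'P (by rw [hcardE']; exact hc) (g : G)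
        have hx' : (x : G) ∈ (E'.map E.subtype).map (MulAut.conj (g : G)).toMonoidHom ⊓
            Subgroup.normalizer ((E'.map E.subtype : Subgroup G) : Set G) := by
          refine ⟨?_, ?_⟩
          · obtain ⟨y, hy, hyx⟩ := hx.1
            refine ⟨(y : G), ⟨y, hy, rfl⟩, ?_⟩
            rw [← hyx]
            rfl
          · exact Subgroup.le_normalizer_map E.subtype ⟨x, hx.2, rfl⟩
        obtain ⟨y, hy, hyx⟩ := hF hx'
        have : y = x := Subtype.ext hyx
        exact this ▸ hy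
  rw [Cfsg.Agent.Lib.Helper2.PComp.hasNormalPComplement_iff P₀] at hcomp
  obtain ⟨N, hNn, hNc⟩ := hcomp
  obtain ⟨K, hKdef⟩ : ∃ K : Subgroup G, K = N.map E.subtype := ⟨_, rfl⟩
  have hKE : K ≤ E := hKdef ▸ Subgroup.map_subtype_le _
  have hmemK : ∀ x : G, x ∈ K ↔ x ∈ E ∧ (orderOf x).Coprime p := by
    intro x
    rw [hKdef]
    constructor
    · rintro ⟨y, hy, rfl⟩
      refine ⟨y.2, ?_⟩
      have h1 := (Cfsg.Agent.Lib.Helper2.PComp.mem_iff_coprime_orderOf P₀ N hNc y).mp hy
      rw [← Subgroup.orderOf_coe] at h1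
      exact h1
    · rintro ⟨hxE, hxo⟩
      refine ⟨⟨x, hxE⟩, ?_, rfl⟩
      apply (Cfsg.Agent.Lib.Helper2.PComp.mem_iff_coprime_orderOf P₀ N hNc _).mpr
      rw [← Subgroup.orderOf_coe]
      exact hxo
  have hKn : K.Normal := by
    constructor
    intro x hx g
    rw [hmemK] at hx ⊢
    refine ⟨hEn.conj_mem x hx.1 g, ?_⟩
    have h1 : orderOf (g * x * g⁻¹) = orderOf x := (MulAut.conj g).orderOf_eq x
    rw [h1]; exact hx.2
  have hKcard : Nat.card K = Nat.card N := by
    rw [hKdef]; exact Subgroup.card_map_of_injective (Subgroup.subtype_injective E)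
  have hNP : Nat.card N * Nat.card (P₀ : Subgroup E) = Nat.card E := hNc.card_mul_card
  have hP₀1 : 1 < Nat.card (P₀ : Subgroup E) := by
    have h1 : (P₀ : Subgroup E) ≠ ⊥ := P₀.ne_bot_of_dvd_card hpdvd
    have h4 : Nat.card (P₀ : Subgroup E) ≠ 1 := fun h => h1 (Subgroup.card_eq_one.mp h)
    have h5 : 0 < Nat.card (P₀ : Subgroup E) := Nat.card_pos
    omega
  have hKlt : Nat.card K < n := by
    have h3 : 0 < Nat.card N := Nat.card_pos
    rw [hKcard, ← hcard, ← hNP]
    nlinarith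
  have hKrel : K.relIndex E = Nat.card (P₀ : Subgroup E) := by
    rw [hKdef, Subgroup.relIndex, Subgroup.subgroupOf,
      Subgroup.comap_map_eq_self_of_injective (Subgroup.subtype_injective E)]
    exact hNc.symm.index_eq_card
  -- the hypothesis passes to `K`
  have hK : ∀ (r : ℕ), r.Prime → ∀ R : Subgroup G, R ≤ K → IsPGroup r R → ¬ r ∣ R.relIndex K →
      ¬ IsCyclic ↥R →
      ∃ D : Subgroup G, D ≤ R ∧ 1 < Nat.card D ∧ Nat.card D < Nat.card R ∧
        ∀ F : Subgroup G, F ≤ R → (Nat.card F = Nat.card D ∨ (Nat.card D = 2 ∧ Nat.card F = 4)) →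
          ∀ g : G, F.map (MulAut.conj g).toMonoidHom ⊓ Subgroup.normalizer (F : Set G) ≤ F := by
    intro r hr R hRK hRp hRrel hRcyc
    have hrp : r ≠ p := by
      intro hrp
      apply hRcyc
      have hRb : R = ⊥ := by
        rw [eq_bot_iff]
        intro x hx
        rw [Subgroup.mem_bot]
        exact eq_one_of_pgroup_coprime hRp hx (hrp ▸ ((hmemK x).mp (hRK hx)).2)
      rw [hRb]; infer_instance
    refine h r hr R (hRK.trans hKE) hRp ?_ hRcyc
    rw [← Subgroup.relIndex_mul_relIndex R K E hRK hKE]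
    intro hdiv
    rcases (Nat.Prime.dvd_mul hr).mp hdiv with h1 | h1
    · exact hRrel h1
    · rw [hKrel] at h1
      obtain ⟨a, ha⟩ := IsPGroup.iff_card.mp P₀.isPGroup'
      rw [ha] at h1
      exact hrp ((Nat.prime_dvd_prime_iff_eq hr hp).mp (hr.dvd_of_dvd_pow h1))
  -- `G ⧸ K` is supersolvable
  have hGK : Cfsg.IsSupersolvable (G ⧸ K) := by
    obtain ⟨π, hπdef⟩ : ∃ π : G →* G ⧸ K, π = QuotientGroup.mk' K := ⟨_, rfl⟩
    have hπs : Function.Surjective π := hπdef ▸ QuotientGroup.mk'_surjective K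
    have hπ1 : ∀ x : G, π x = 1 ↔ x ∈ K := fun x => by
      rw [hπdef]; exact QuotientGroup.eq_one_iff x
    have hQn : (E.map π).Normal := hEn.map _ hπs
    -- every element of `E` is `k * x` with `k ∈ K`, `x ∈ P`
    have hdecomp : ∀ e ∈ E, ∃ k ∈ K, ∃ x ∈ P, e = k * x := by
      intro e he
      obtain ⟨⟨⟨k, hk⟩, ⟨x, hx⟩⟩, hkx, -⟩ := hNc.existsUnique ⟨e, he⟩
      have hkx' : k * x = ⟨e, he⟩ := hkx
      refine ⟨(k : G), hKdef ▸ ⟨k, hk, rfl⟩, (x : G), hPdef ▸ ⟨x, hx, rfl⟩, ?_⟩
      have := congrArg Subtype.val hkx'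
      exact this.symm
    have hEP : E.map π = P.map π := by
      apply le_antisymm
      · rintro _ ⟨e, he, rfl⟩
        obtain ⟨k, hk, x, hx, rfl⟩ := hdecomp e he
        refine ⟨x, hx, ?_⟩
        rw [map_mul, (hπ1 k).mpr hk, one_mul]
      · exact Subgroup.map_mono hPE
    have hQp : IsPGroup p (E.map π) := by rw [hEP]; exact hPp.map _
    have hss' : Cfsg.IsSupersolvable ((G ⧸ K) ⧸ E.map π) := by
      refine isSupersolvable_of_surjective
        (QuotientGroup.map E (E.map π) π (Subgroup.le_comap_map _ _)) ?_ hss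
      apply QuotientGroup.map_surjective_of_surjective
      intro y
      induction y using QuotientGroup.induction_on with
      | H y =>
        obtain ⟨g, rfl⟩ := hπs y
        exact ⟨g, rfl⟩
    have hcardmap : ∀ F : Subgroup G, F ≤ P → Nat.card (F.map π) = Nat.card F := by
      intro F hF
      have hKF : K ⊓ F = ⊥ := by
        rw [eq_bot_iff]
        intro x hx
        rw [Subgroup.mem_bot]
        exact eq_one_of_pgroup_coprime hPp (hF hx.2) ((hmemK x).mp hx.1).2
      rw [← Subgroup.relIndex_ker, hπdef, QuotientGroup.ker_mk', ← Subgroup.inf_relIndex_right,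
        hKF, Subgroup.relIndex_bot_left]
    by_cases hcyc : IsCyclic ↥P
    · have hc' : IsCyclic ↥(E.map π) := by
        rw [hEP]
        exact isCyclic_of_surjective (π.subgroupMap P) (π.subgroupMap_surjective P)
      exact isSupersolvable_of_cyclic_normal (E.map π) hc' hss'
    · obtain ⟨D, hDP, hD1, hDlt, hD⟩ := h p hp P hPE hPp hPrel hcyc
      apply ss_key p (E.map π) hQp hss' (D.map π) (Subgroup.map_mono (hDP.trans hPE))
        (by rw [hcardmap D hDP]; exact hD1)
        (by rw [hcardmap D hDP, hEP, hcardmap P le_rfl]; exact hDlt)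
      intro Fb hFbQ hFbc
      rw [hcardmap D hDP] at hFbc
      obtain ⟨F, hFdef⟩ : ∃ F : Subgroup G, F = Fb.comap π ⊓ P := ⟨_, rfl⟩
      have hFP : F ≤ P := hFdef ▸ inf_le_right
      have hFmap : F.map π = Fb := by
        apply le_antisymm
        · rintro _ ⟨y, hy, rfl⟩
          rw [hFdef] at hy
          exact hy.1
        · intro yb hyb
          have h1 : yb ∈ P.map π := hEP ▸ hFbQ hyb
          obtain ⟨x, hx, rfl⟩ := h1
          exact ⟨x, hFdef ▸ ⟨hyb, hx⟩, rfl⟩
      have hFc : Nat.card F = Nat.card Fb := by rw [← hFmap, hcardmap F hFP]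
      have hadm : Nat.card F = Nat.card D ∨ (Nat.card D = 2 ∧ Nat.card F = 4) := by
        rw [hFc]; exact hFbc
      have hPF : P ≤ Subgroup.normalizer (F : Set G) :=
        le_normalizer_of_closed P F hPp hFP (hD F hFP hadm)
      -- Frattini argument
      have hfr : ∀ g : G, ∃ k ∈ K, ∃ a ∈ Subgroup.normalizer (P : Set G), g = k * a := by
        intro g
        have h1 := Sylow.normalizer_sup_eq_top P₀
        rw [← hPdef, sup_comm] at h1
        have h2 : g ∈ E ⊔ Subgroup.normalizer (P : Set G) := by rw [h1]; exact Subgroup.mem_top g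
        obtain ⟨e, he, a', ha', rfl⟩ := Subgroup.mem_sup_of_normal_left.mp h2
        obtain ⟨k, hk, x, hx, rfl⟩ := hdecomp e he
        exact ⟨k, hk, x * a', mul_mem (Subgroup.le_normalizer hx) ha', by group⟩
      constructor
      intro yb hyb gb
      obtain ⟨g, rfl⟩ := hπs gb
      rw [← hFmap] at hyb ⊢
      obtain ⟨y, hy, rfl⟩ := hyb
      obtain ⟨k, hk, a, ha, rfl⟩ := hfr g
      have hay : a * y * a⁻¹ ∈ F := by
        apply hD F hFP hadm a
        refine ⟨⟨y, hy, rfl⟩, hPF ?_⟩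
        exact (Subgroup.mem_normalizer_iff.mp ha y).mp (hFP hy)
      refine ⟨a * y * a⁻¹, hay, ?_⟩
      rw [map_mul, map_mul, map_inv, map_mul, (hπ1 k).mpr hk, one_mul]
  exact @ih (Nat.card K) hKlt K hKn rfl hGK hK

end Cfsg.Agent.Lib.Helper48.SSMain
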