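import Cfsg.Agent.Lib.Helper88.VFStmt

/-!
S5286 piece FREE: a subgroup of `N₀ ⋊ K`, `N₀` free and `K` finite, has a free normal subgroup of
index dividing `#K`.
-/

set_option autoImplicit false

namespace Cfsg.Agent.Lib.Helper48.VFFREE

open Cfsg Cfsg.Agent.Lib.Helper88.VFDefs Cfsg.Agent.Lib.Helper88.VFStmt

universe u

theorem main : FreeP.{u} := by
  intro N₀ K _ _ _ _ φ Gp
  let f : Gp →* K := (SemidirectProduct.rightHom).comp Gp.subtype
  have hker : ∀ x : f.ker, ((x : Gp) : N₀ ⋊[φ] K).right = 1 := by
    intro x
    have := x.2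
    rw [MonoidHom.mem_ker] at this
    exact this
  refine ⟨f.ker, inferInstance, ?_, ?_⟩
  · let g : f.ker →* N₀ :=
      { toFun := fun x => ((x : Gp) : N₀ ⋊[φ] K).left
        map_one' := rfl
        map_mul' := by
          intro a b
          show (((a : Gp) : N₀ ⋊[φ] K) * ((b : Gp) : N₀ ⋊[φ] K)).left = _
          rw [SemidirectProduct.mul_left, hker a]
          simp }
    have hg : Function.Injective g := by
      intro a b hab
      apply Subtype.ext
      apply Subtype.ext
      apply SemidirectProduct.ext
      · exact hab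
      · rw [hker a, hker b]
    have hfree : IsFreeGroup g.range := subgroupIsFreeOfIsFree g.range
    exact IsFreeGroup.ofMulEquiv (MonoidHom.ofInjective hg).symm
  · rw [Subgroup.index_ker]
    exact Subgroup.card_subgroup_dvd_card f.range

end Cfsg.Agent.Lib.Helper48.VFFREE
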