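import Mathlib
import Cfsg.Prelude.Def_Local
import Cfsg.Prelude.Def_Solvable
import Cfsg.Agent.Lib.Helper48.WielCore
import Cfsg.Agent.Lib.Helper51.TWb
import Cfsg.Agent.Lib.Helper51.TWc
import Cfsg.Agent.S5752

/-!
# `O_q` of the two-point stabilizer

Two distinct conjugate core-free maximal subgroups `M₁`, `M₂`: if `O_q(M₁ ⊓ M₂)` lies in the
first core `A₁ = core_{M₁}(M₁ ⊓ M₂)`, then `O_q(M₁ ⊓ M₂) = 1`.
-/

set_option autoImplicit false

namespace Cfsg.Agent.Lib.Helper48.WielOq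

open Subgroup Cfsg.Agent.Lib.Helper48.WielCore Cfsg.Agent.Lib.Helper51.TWa
  Cfsg.Agent.Lib.Helper51.TWb Cfsg.Agent.Lib.Helper51.TWc

universe u
variable {G : Type u} [Group G]

theorem OG_inf_eq_bot [Finite G] (M₁ M₂ : Subgroup G) (hmax : IsCoatom M₁) (g : G)
    (hconj : M₂ = M₁.map (MulAut.conj g).toMonoidHom) (hne : M₁ ≠ M₂)
    (hcore : M₁.normalCore = ⊥) (q : ℕ) [Fact q.Prime]
    (hQ : OG q (M₁ ⊓ M₂) ≤ A1 M₁ M₂) : OG q (M₁ ⊓ M₂) = ⊥ := by
  by_contra hQne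
  obtain ⟨Q, hQdef⟩ : ∃ Q : Subgroup G, Q = OG q (M₁ ⊓ M₂) := ⟨_, rfl⟩
  rw [← hQdef] at hQ hQne
  have hF := OG_isFun (G := G) q
  have hQX : Q ≤ M₁ ⊓ M₂ := by rw [hQdef]; exact hF.le _
  have hQp : IsPGroup q Q := by rw [hQdef]; exact OG_isPGroup q _
  have hQM₁ : Q ≤ M₁ := hQX.trans inf_le_left
  have hQM₂ : Q ≤ M₂ := hQX.trans inf_le_right
  have hA1X : A1 M₁ M₂ ≤ M₁ ⊓ M₂ := coreIn_le_right _ _
  have hA1n : M₁ ≤ normalizer (A1 M₁ M₂ : Set G) := coreIn_normalizer M₁ (M₁ ⊓ M₂)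
  -- `Q = O_q(A₁)`
  have h1 : Q ≤ OG q (A1 M₁ M₂) := by
    apply le_OG hQ _ hQp
    rw [hQdef]
    exact hA1X.trans (le_normalizer.trans (OG_le_normalizer q (M₁ ⊓ M₂)))
  have h2 : OG q (A1 M₁ M₂) ≤ Q := by
    rw [hQdef]
    exact hF.mono (A1 M₁ M₂) (M₁ ⊓ M₂) hA1X (inf_le_left.trans hA1n)
  have hQeq : Q = OG q (A1 M₁ M₂) := le_antisymm h1 h2
  have hQn : M₁ ≤ normalizer (Q : Set G) := by
    rw [hQeq]
    exact hA1n.trans (OG_le_normalizer q (A1 M₁ M₂))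
  have hNQ : normalizer (Q : Set G) ≤ M₁ :=
    Cfsg.Agent.S5752.normalizer_le_of_coatom hmax hcore Q hQM₁ hQn hQne
  -- the conjugate
  obtain ⟨Q', hQ'def⟩ : ∃ Q' : Subgroup G, Q' = Q.map (MulAut.conj g).toMonoidHom := ⟨_, rfl⟩
  have hQ'M₂ : Q' ≤ M₂ := by
    rw [hQ'def, hconj]
    exact Subgroup.map_mono hQM₁
  have hQ'p : IsPGroup q Q' := by rw [hQ'def]; exact hQp.map _
  have hQ'n : M₂ ≤ normalizer (Q' : Set G) := by
    intro n hn
    rw [hconj] at hn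
    obtain ⟨m, hm, rfl⟩ := hn
    rw [mem_normalizer_iff]
    intro x
    rw [hQ'def, mem_cj, mem_cj]
    have h3 := mem_normalizer_iff.1 (hQn hm) (g⁻¹ * x * g)
    have e : g⁻¹ * ((MulAut.conj g).toMonoidHom m * x * ((MulAut.conj g).toMonoidHom m)⁻¹) * g
        = m * (g⁻¹ * x * g) * m⁻¹ := by
      simp [MulAut.conj_apply, mul_assoc]
    rw [e]
    exact h3
  have hcard : Nat.card Q' = Nat.card Q := by
    rw [hQ'def]
    exact Subgroup.card_map_of_injective (MulAut.conj g).injective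
  -- `Q' ⊓ (M₁ ⊓ M₂) ≤ Q`
  have hQ'X : Q' ⊓ (M₁ ⊓ M₂) ≤ Q := by
    rw [hQdef]
    apply le_OG inf_le_right _ (hQ'p.to_le inf_le_left)
    intro n hn
    rw [mem_normalizer_iff]
    intro x
    have h3 := mem_normalizer_iff.1 (hQ'n hn.2) x
    have h4 : x ∈ M₁ ⊓ M₂ ↔ n * x * n⁻¹ ∈ M₁ ⊓ M₂ := by
      constructor
      · intro hx; exact mul_mem (mul_mem hn hx) (inv_mem hn)
      · intro hx
        have := mul_mem (mul_mem (inv_mem hn) hx) hn
        simpa [mul_assoc] using this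
    constructor
    · rintro ⟨hx1, hx2⟩
      exact ⟨h3.1 hx1, h4.1 hx2⟩
    · rintro ⟨hx1, hx2⟩
      exact ⟨h3.2 hx1, h4.2 hx2⟩
  -- `Q' ⊔ Q` is a `q`-group
  have hT : IsPGroup q ↥(Q' ⊔ Q) := IsPGroup.to_sup_of_normal_left' hQ'p hQp (hQM₂.trans hQ'n)
  have hQ'Q : Q' ≤ Q := by
    by_contra hcon
    have hlt : Q.subgroupOf (Q' ⊔ Q) < ⊤ := by
      rw [lt_top_iff_ne_top]
      intro h
      apply hcon
      rw [subgroupOf_eq_top] at h
      exact le_sup_left.trans h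
    have hnil : Group.IsNilpotent ↥(Q' ⊔ Q) := hT.isNilpotent
    have hnc := Group.normalizerCondition_of_isNilpotent (G := ↥(Q' ⊔ Q)) _ hlt
    obtain ⟨y, hyN, hyQ⟩ := SetLike.exists_of_lt hnc
    have hyG : (y : G) ∈ normalizer (Q : Set G) := by
      rw [mem_normalizer_iff]
      intro x
      rw [mem_normalizer_iff] at hyN
      constructor
      · intro hx
        have := (hyN ⟨x, le_sup_right (a := Q') hx⟩).1 (by rw [mem_subgroupOf]; exact hx)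
        rw [mem_subgroupOf] at this
        simpa using this
      · intro hx
        have hxT : x ∈ Q' ⊔ Q := by
          have h5 : (y : G) * x * (y : G)⁻¹ ∈ Q' ⊔ Q := le_sup_right (a := Q') hx
          have := mul_mem (mul_mem (inv_mem y.2) h5) y.2
          simpa [mul_assoc] using this
        have := (hyN ⟨x, hxT⟩).2 (by rw [mem_subgroupOf]; simpa using hx)
        rw [mem_subgroupOf] at this
        exact this
    have hyM₁ : (y : G) ∈ M₁ := hNQ hyG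
    obtain ⟨a, ha, b, hb, hab⟩ := exists_mul_of_mem_sup (hQM₂.trans hQ'n) y.2
    have haM₁ : a ∈ M₁ := by
      have : a = (y : G) * b⁻¹ := by rw [hab]; group
      rw [this]
      exact mul_mem hyM₁ (inv_mem (hQM₁ hb))
    have haQ : a ∈ Q := hQ'X ⟨ha, haM₁, hQ'M₂ ha⟩
    apply hyQ
    rw [mem_subgroupOf, hab]
    exact mul_mem haQ hb
  have hQ'eq : Q' = Q := Subgroup.eq_of_le_of_card_ge hQ'Q (le_of_eq hcard.symm)
  have h5 : M₂ ≤ M₁ := by
    rw [hQ'eq] at hQ'n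
    exact hQ'n.trans hNQ
  apply hne
  have hcardM : Nat.card M₂ = Nat.card M₁ := by
    rw [hconj]
    exact Subgroup.card_map_of_injective (MulAut.conj g).injective
  exact (Subgroup.eq_of_le_of_card_ge h5 (le_of_eq hcardM.symm)).symm

end Cfsg.Agent.Lib.Helper48.WielOq
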