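import Mathlib
import Cfsg.Prelude.Def_Local
import Cfsg.Prelude.Def_Solvable
import Cfsg.Agent.Lib.Helper48.WielCore
import Cfsg.Agent.Lib.Helper48.WielOq
import Cfsg.Agent.Lib.Helper51.TWb
import Cfsg.Agent.Lib.Helper78.Fitting
import Cfsg.Agent.S5752

/-!
# Wielandt's bound `d! * ((d-1)!)^d` for primitive groups with a suborbit of length `d`

Consequences of the Thompson–Wielandt theorem (`Cfsg.Agent.S5752.result`).
-/

set_option autoImplicit false

namespace Cfsg.Agent.Lib.Helper48.WielPerm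

open Subgroup Cfsg.Agent.Lib.Helper48.WielCore Cfsg.Agent.Lib.Helper48.WielOq
  Cfsg.Agent.Lib.Helper51.TWa Cfsg.Agent.Lib.Helper51.TWb Cfsg.Agent.Lib.Helper78

/-- the sequence of iterated cores of the Thompson–Wielandt statement -/
def seq {G : Type*} [Group G] (M₁ M₂ : Subgroup G) : ℕ → Subgroup G × Subgroup G
  | 0 => (M₁, M₂)
  | (i + 1) =>
    ((((seq M₁ M₂ i).1 ⊓ (seq M₁ M₂ i).2).subgroupOf M₁).normalCore.map M₁.subtype,
     (((seq M₁ M₂ i).1 ⊓ (seq M₁ M₂ i).2).subgroupOf M₂).normalCore.map M₂.subtype)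

theorem relIndex_mul_card_inf {G : Type*} [Group G] (H K : Subgroup G) :
    H.relIndex K * Nat.card ↥(H ⊓ K) = Nat.card K := by
  have h1 : Nat.card ↥(H ⊓ K) = Nat.card ↥(H.subgroupOf K) := by
    rw [← Subgroup.subgroupOf_map_subtype H K]
    exact Subgroup.card_map_of_injective K.subtype_injective
  rw [h1]
  exact Subgroup.index_mul_card (H.subgroupOf K)

/-- The abstract alternative: the second core has index dividing the Wielandt bound, and either
the whole of `M₁` has order dividing the bound or the second core is a `p`-group and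
`F*(M₁) = O_p(M₁)`. -/
theorem main_alt {G : Type*} [Group G] [Finite G] (M₁ M₂ : Subgroup G) (hmax : IsCoatom M₁)
    (g : G) (hconj : M₂ = M₁.map (MulAut.conj g).toMonoidHom) (hne : M₁ ≠ M₂)
    (hcore : M₁.normalCore = ⊥) (d : ℕ) (hd : M₂.relIndex M₁ = d) :
    (A2 M₁ M₂).relIndex M₁ ∣ d.factorial * ((d - 1).factorial) ^ d ∧
    (Nat.card M₁ ∣ d.factorial * ((d - 1).factorial) ^ d ∨
      ∃ p : ℕ, p.Prime ∧ IsPGroup p ↥(A2 M₁ M₂) ∧
        Cfsg.generalizedFittingSubgroup ↥M₁ = Cfsg.pCore p ↥M₁) := by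
  have hcardM : Nat.card M₂ = Nat.card M₁ := by
    rw [hconj]
    exact Subgroup.card_map_of_injective (MulAut.conj g).injective
  have hd' : M₁.relIndex M₂ = d := by
    have e1 := relIndex_mul_card_inf M₂ M₁
    have e2 := relIndex_mul_card_inf M₁ M₂
    rw [inf_comm] at e1
    rw [hcardM, ← e1, hd] at e2
    have hpos : 0 < Nat.card ↥(M₁ ⊓ M₂) := Nat.card_pos
    exact Nat.eq_of_mul_eq_mul_right hpos e2
  have hA := relIndex_A2_dvd M₁ M₂
  rw [hd, hd'] at hA
  have hB := relIndex_A2_dvd M₂ M₁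
  rw [hd, hd', A2_swap] at hB
  refine ⟨hA, ?_⟩
  by_cases hA2 : A2 M₁ M₂ = ⊥
  · left
    rw [hA2, relIndex_bot_left] at hA
    exact hA
  by_cases hB2 : B2 M₁ M₂ = ⊥
  · left
    rw [hB2, relIndex_bot_left, hcardM] at hB
    exact hB
  right
  obtain ⟨p, hp, hpg, hF, -⟩ := Cfsg.Agent.S5752.result M₁ M₂ hmax g hconj hne hcore
    (fun i => (seq M₁ M₂ i).1) (fun i => (seq M₁ M₂ i).2) rfl rfl (fun i => rfl) (fun i => rfl)
    hA2 hB2
  exact ⟨p, hp, hpg.to_le le_sup_left, hF⟩

/-- Translation of the permutation group hypotheses. -/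
theorem setup {G Ω : Type*} [Group G] [Finite G] [MulAction G Ω] [FaithfulSMul G Ω] [Finite Ω]
    (hprim : MulAction.IsPreprimitive G Ω) (a b : Ω) (d : ℕ)
    (hd : Nat.card (MulAction.orbit (MulAction.stabilizer G a) b) = d) (h2 : 2 ≤ d) :
    IsCoatom (MulAction.stabilizer G a) ∧
    (∃ g : G, MulAction.stabilizer G b =
      (MulAction.stabilizer G a).map (MulAut.conj g).toMonoidHom) ∧
    MulAction.stabilizer G a ≠ MulAction.stabilizer G b ∧
    (MulAction.stabilizer G a).normalCore = ⊥ ∧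
    (MulAction.stabilizer G b).relIndex (MulAction.stabilizer G a) = d := by
  have hpt : MulAction.IsPretransitive G Ω := hprim.toIsPretransitive
  have hrel : (MulAction.stabilizer G b).relIndex (MulAction.stabilizer G a) = d := by
    rw [← hd]
    have h := MulAction.index_stabilizer (MulAction.stabilizer G a) b
    have e : MulAction.stabilizer (MulAction.stabilizer G a) b
        = (MulAction.stabilizer G b).subgroupOf (MulAction.stabilizer G a) := by
      ext x
      rw [MulAction.mem_stabilizer_iff, Subgroup.mem_subgroupOf, MulAction.mem_stabilizer_iff]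
      rfl
    rw [e] at h
    rw [Subgroup.relIndex, h, Nat.card_coe_set_eq]
  have hnt : Nontrivial Ω := by
    have h1 : 1 < Nat.card (MulAction.orbit (MulAction.stabilizer G a) b) := by omega
    rw [Finite.one_lt_card_iff_nontrivial] at h1
    exact (Subtype.val_injective
      (p := fun y => y ∈ MulAction.orbit (MulAction.stabilizer G a) b)).nontrivial
  refine ⟨MulAction.IsPreprimitive.isCoatom_stabilizer_of_isPreprimitive G a, ?_, ?_, ?_, hrel⟩
  · obtain ⟨g, hg⟩ := MulAction.exists_smul_eq G a b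
    exact ⟨g, by rw [← hg]; exact MulAction.stabilizer_smul_eq_stabilizer_map_conj g a⟩
  · intro h
    rw [← h, Subgroup.relIndex_self] at hrel
    omega
  · rw [eq_bot_iff]
    intro x hx
    rw [Subgroup.mem_bot]
    apply FaithfulSMul.eq_of_smul_eq_smul (α := Ω)
    intro y
    rw [one_smul]
    obtain ⟨k, hk⟩ := MulAction.exists_smul_eq G a y
    have h3 : k⁻¹ * x * k⁻¹⁻¹ ∈ MulAction.stabilizer G a := hx k⁻¹
    rw [MulAction.mem_stabilizer_iff] at h3
    rw [← hk]
    have h4 : x • k • a = k • (k⁻¹ * x * k⁻¹⁻¹) • a := by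
      simp [smul_smul, mul_assoc]
    rw [h4, h3]

/-- **Wielandt's theorem** (statement form of S3682). -/
theorem wielandt {G Ω : Type*} [Group G] [Finite G] [MulAction G Ω] [FaithfulSMul G Ω]
    [Finite Ω] (hprim : MulAction.IsPreprimitive G Ω) (a b : Ω) (d : ℕ)
    (hd : Nat.card (MulAction.orbit (MulAction.stabilizer G a) b) = d) (h2 : 2 ≤ d) :
    ∃ p : ℕ, p.Prime ∧ ∃ P : Subgroup (MulAction.stabilizer G a), P.Normal ∧ IsPGroup p P ∧
      (∀ g : P, ((g : MulAction.stabilizer G a) : G) • b = b) ∧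
      P.index ∣ Nat.factorial d * (Nat.factorial (d - 1)) ^ d := by
  obtain ⟨hmax, ⟨g, hconj⟩, hne, hcore, hrel⟩ := setup hprim a b d hd h2
  obtain ⟨hA, hor⟩ := main_alt _ _ hmax g hconj hne hcore d hrel
  rcases hor with hcard | ⟨p, hp, hpg, -⟩
  · refine ⟨2, Nat.prime_two, ⊥, inferInstance, IsPGroup.of_bot, ?_, ?_⟩
    · rintro ⟨x, hx⟩
      rw [Subgroup.mem_bot] at hx
      subst hx
      simp
    · rw [Subgroup.index_bot]
      exact hcard
  · refine ⟨p, hp, ((A1 (MulAction.stabilizer G a) (MulAction.stabilizer G b) ⊓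
        B1 (MulAction.stabilizer G a) (MulAction.stabilizer G b)).subgroupOf
          (MulAction.stabilizer G a)).normalCore, inferInstance, ?_, ?_, ?_⟩
    · exact hpg.of_equiv
        (Subgroup.equivMapOfInjective _ _ (Subgroup.subtype_injective _)).symm
    · rintro ⟨x, hx⟩
      have h1 : (x : G) ∈ A2 (MulAction.stabilizer G a) (MulAction.stabilizer G b) :=
        ⟨x, hx, rfl⟩
      have h3 := A1_le_right _ _ (A2_le_A1 _ _ h1)
      exact MulAction.mem_stabilizer_iff.1 h3
    · have h : (A2 (MulAction.stabilizer G a) (MulAction.stabilizer G b)).subgroupOf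
          (MulAction.stabilizer G a)
          = ((A1 (MulAction.stabilizer G a) (MulAction.stabilizer G b) ⊓
            B1 (MulAction.stabilizer G a) (MulAction.stabilizer G b)).subgroupOf
              (MulAction.stabilizer G a)).normalCore :=
        Subgroup.comap_map_eq_self_of_injective (Subgroup.subtype_injective _) _
      rw [← h]
      exact hA

/-- Statement form of S3688. -/
theorem wielandt_fstar {G Ω : Type*} [Group G] [Finite G] [MulAction G Ω] [FaithfulSMul G Ω]
    [Finite Ω] (hprim : MulAction.IsPreprimitive G Ω) (a b : Ω) (d : ℕ)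
    (hd : Nat.card (MulAction.orbit (MulAction.stabilizer G a) b) = d) (h2 : 2 ≤ d)
    (hnc : ∀ p : ℕ, p.Prime → Cfsg.generalizedFittingSubgroup (MulAction.stabilizer G a) ≠
      Cfsg.pCore p (MulAction.stabilizer G a)) :
    Nat.card (MulAction.stabilizer G a) ∣ Nat.factorial d * (Nat.factorial (d - 1)) ^ d := by
  obtain ⟨hmax, ⟨g, hconj⟩, hne, hcore, hrel⟩ := setup hprim a b d hd h2
  obtain ⟨hA, hor⟩ := main_alt _ _ hmax g hconj hne hcore d hrel
  rcases hor with hcard | ⟨p, hp, hpg, hF⟩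
  · exact hcard
  · exact absurd hF (hnc p hp)

/-- If the two-point stabilizer induces on the suborbit a group with trivial Fitting subgroup,
then `O_q` of the two-point stabilizer lies in the kernel of the action on the suborbit. -/
theorem OG_le_A1_of_fitting {G Ω : Type*} [Group G] [Finite G] [MulAction G Ω] [Finite Ω]
    (a b : Ω)
    (hF : Cfsg.fittingSubgroup ↥(((MulAction.stabilizer G b).subgroupOf
      (MulAction.stabilizer G a)).map (MulAction.toPermHom (MulAction.stabilizer G a)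
        (MulAction.orbit (MulAction.stabilizer G a) b))) = ⊥)
    (q : ℕ) [Fact q.Prime] :
    OG q (MulAction.stabilizer G a ⊓ MulAction.stabilizer G b)
      ≤ A1 (MulAction.stabilizer G a) (MulAction.stabilizer G b) := by
  obtain ⟨M₁, hM₁⟩ : ∃ M₁ : Subgroup G, M₁ = MulAction.stabilizer G a := ⟨_, rfl⟩
  obtain ⟨M₂, hM₂⟩ : ∃ M₂ : Subgroup G, M₂ = MulAction.stabilizer G b := ⟨_, rfl⟩
  obtain ⟨ψ, hψ⟩ : ∃ ψ : ↥(MulAction.stabilizer G a) →*
      Equiv.Perm ↥(MulAction.orbit (MulAction.stabilizer G a) b),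
      ψ = MulAction.toPermHom (MulAction.stabilizer G a)
        (MulAction.orbit (MulAction.stabilizer G a) b) := ⟨_, rfl⟩
  rw [← hψ] at hF
  have hFun := OG_isFun (G := G) q
  have hQX : OG q (MulAction.stabilizer G a ⊓ MulAction.stabilizer G b)
      ≤ MulAction.stabilizer G a ⊓ MulAction.stabilizer G b := hFun.le _
  have hQp : IsPGroup q ↥(OG q (MulAction.stabilizer G a ⊓ MulAction.stabilizer G b)) :=
    OG_isPGroup q _
  -- the image of `Q` in the induced group is a normal `q`-subgroup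
  obtain ⟨R, hR⟩ : ∃ R : Subgroup ↥(((MulAction.stabilizer G b).subgroupOf
      (MulAction.stabilizer G a)).map ψ),
      R = (((OG q (MulAction.stabilizer G a ⊓ MulAction.stabilizer G b)).subgroupOf
        (MulAction.stabilizer G a)).map ψ).subgroupOf _ := ⟨_, rfl⟩
  have hRp : IsPGroup q ↥R := by
    rw [hR]
    exact ((hQp.comap_subtype).map ψ).comap_subtype
  have hRn : R.Normal := by
    constructor
    rintro ⟨n, hn⟩ hnR ⟨k, hk⟩
    rw [hR, mem_subgroupOf] at hnR ⊢
    obtain ⟨u, hu, hun⟩ := hnR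
    obtain ⟨v, hv, hvk⟩ := hk
    refine ⟨v * u * v⁻¹, ?_, ?_⟩
    · have hu' : (u : G) ∈ OG q (MulAction.stabilizer G a ⊓ MulAction.stabilizer G b) := hu
      have hv' : (v : G) ∈ MulAction.stabilizer G b := hv
      have hvX : (v : G) ∈ MulAction.stabilizer G a ⊓ MulAction.stabilizer G b :=
        Subgroup.mem_inf.2 ⟨v.2, hv'⟩
      have h6 := hFun.norm _ (v : G) (le_normalizer hvX) (u : G) hu'
      exact h6
    · simp only [map_mul, map_inv, hun, hvk]
      rfl
  have hRbot : R = ⊥ := by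
    have h1 := Fitting.le_pCore hRn hRp
    have h2 := Fitting.pCore_le_fitting (G := ↥(((MulAction.stabilizer G b).subgroupOf
      (MulAction.stabilizer G a)).map ψ)) q
    rw [hF] at h2
    exact eq_bot_iff.2 (h1.trans h2)
  intro x hx
  have hxX := hQX hx
  have hxa : x ∈ MulAction.stabilizer G a := hxX.1
  have hψx : ψ ⟨x, hxa⟩ = 1 := by
    have hmem : ψ ⟨x, hxa⟩ ∈ ((MulAction.stabilizer G b).subgroupOf
        (MulAction.stabilizer G a)).map ψ :=
      ⟨⟨x, hxa⟩, by rw [SetLike.mem_coe, mem_subgroupOf]; exact hxX.2, rfl⟩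
    have h1 : (⟨ψ ⟨x, hxa⟩, hmem⟩ : ↥(((MulAction.stabilizer G b).subgroupOf
        (MulAction.stabilizer G a)).map ψ)) ∈ R := by
      rw [hR, mem_subgroupOf]
      exact ⟨⟨x, hxa⟩, by rw [SetLike.mem_coe, mem_subgroupOf]; exact hx, rfl⟩
    rw [hRbot, Subgroup.mem_bot] at h1
    exact congrArg Subtype.val h1
  rw [mem_coreIn]
  refine ⟨hxa, fun h hh => Subgroup.mem_inf.2 ⟨mul_mem (mul_mem hh hxa) (inv_mem hh), ?_⟩⟩
  rw [MulAction.mem_stabilizer_iff]
  have hy : (⟨h⁻¹, inv_mem hh⟩ : ↥(MulAction.stabilizer G a)) • b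
      ∈ MulAction.orbit (MulAction.stabilizer G a) b := MulAction.mem_orbit b _
  have h3 := DFunLike.congr_fun hψx ⟨_, hy⟩
  rw [hψ] at h3
  have h4 := congrArg Subtype.val h3
  have h5 : x • h⁻¹ • b = h⁻¹ • b := h4
  rw [mul_smul, mul_smul, h5, smul_inv_smul]

/-- Statement form of S3693. -/
theorem wielandt_fitting {G Ω : Type*} [Group G] [Finite G] [MulAction G Ω] [FaithfulSMul G Ω]
    [Finite Ω] (hprim : MulAction.IsPreprimitive G Ω) (a b : Ω) (d : ℕ)
    (hd : Nat.card (MulAction.orbit (MulAction.stabilizer G a) b) = d) (h2 : 2 ≤ d)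
    (hF : Cfsg.fittingSubgroup ↥(((MulAction.stabilizer G b).subgroupOf
      (MulAction.stabilizer G a)).map (MulAction.toPermHom (MulAction.stabilizer G a)
        (MulAction.orbit (MulAction.stabilizer G a) b))) = ⊥) :
    Cfsg.fittingSubgroup ↥(MulAction.stabilizer G a ⊓ MulAction.stabilizer G b) = ⊥ ∧
      Nat.card (MulAction.stabilizer G a) ∣ Nat.factorial d * (Nat.factorial (d - 1)) ^ d := by
  obtain ⟨hmax, ⟨g, hconj⟩, hne, hcore, hrel⟩ := setup hprim a b d hd h2
  obtain ⟨hA, hor⟩ := main_alt _ _ hmax g hconj hne hcore d hrel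
  have hOG : ∀ (q : ℕ) [Fact q.Prime],
      OG q (MulAction.stabilizer G a ⊓ MulAction.stabilizer G b) = ⊥ := fun q _ =>
    OG_inf_eq_bot _ _ hmax g hconj hne hcore q (OG_le_A1_of_fitting a b hF q)
  refine ⟨?_, ?_⟩
  · rw [Fitting.fitting_eq_iSup_pCore]
    apply iSup_eq_bot.2
    intro s
    have : Fact (s : ℕ).Prime := ⟨s.2⟩
    exact (map_eq_bot_iff_of_injective _ (Subgroup.subtype_injective _)).1 (hOG (s : ℕ))
  · rcases hor with hcard | ⟨p, hp, hpg, -⟩
    · exact hcard
    · have : Fact p.Prime := ⟨hp⟩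
      have h1 : A2 (MulAction.stabilizer G a) (MulAction.stabilizer G b)
          ≤ OG p (MulAction.stabilizer G a ⊓ MulAction.stabilizer G b) := by
        apply le_OG _ _ hpg
        · exact le_inf ((A2_le_A1 _ _).trans (A1_le_left _ _))
            ((A2_le_A1 _ _).trans (A1_le_right _ _))
        · exact inf_le_left.trans (coreIn_normalizer _ _)
      rw [hOG p] at h1
      have h3 : A2 (MulAction.stabilizer G a) (MulAction.stabilizer G b) = ⊥ := eq_bot_iff.2 h1
      rw [h3, relIndex_bot_left] at hA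
      exact hA

end Cfsg.Agent.Lib.Helper48.WielPerm
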